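import Mathlib
import Cfsg.Agent.Base

/-! Arithmetic for the self-centralization system of type `(2, 4, 4)`. -/

set_option autoImplicit false

namespace H84.SC

theorem arA1 {n a b m s γ : ℤ} (ha : 9 ≤ a) (t5 : 3 * a ≤ m) (t8 : 2 * s < m) (s0 : 13 ≤ s)
    (hb : n ≤ b) (h4 : m ^ 2 < 3 * n) (e1 : m * a * s = 8 + b * γ) (g0 : 0 ≤ γ) : s * γ < n := by
  have m0 : 0 < m := by omega
  have n0 : 0 < n := by nlinarith
  have v1 : (2 * s) ^ 2 ≤ m ^ 2 := by gcongr
  have v2 : m * (3 * a) * (2 * s) ^ 2 ≤ m * m * m ^ 2 := by gcongr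
  have v3 : m ^ 2 * m ^ 2 < 3 * n * (3 * n) := mul_self_lt_mul_self (by positivity) h4
  have v5 : n * (s * γ) ≤ b * (s * γ) := by gcongr
  have v6 : m * a * s * s = 8 * s + b * (s * γ) := by rw [e1]; ring
  have v7 : 0 < n * n := by positivity
  exact lt_of_mul_lt_mul_left (a := n) (by linarith) n0.le

theorem arA2 {n a b m s : ℤ} (hs : s = 2 * n - b) (hab : a ≤ b) (ha : 9 ≤ a) (h1 : a + b + 4 ≤ 2 * n)
    (h2 : a * b * (2 * n - 4 - a - b) < m * (a + b)) (h3 : 4 * (a * b) < m * (a + b))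
    (h4 : m ^ 2 < 3 * n) : 3 * a ≤ m ∧ 2 * s < m ∧ n ≤ b := by
  have b0 : 0 < b := by omega
  have m0 : 2 * a < m := by nlinarith
  rw [show 2 * n - 4 - a - b = s - a - 4 by omega] at h2
  have t0 : m * a ≤ m * b := by gcongr; omega
  have t1 : a * (s - a - 4) < 2 * m := lt_of_mul_lt_mul_left (a := b) (by linarith) b0.le
  have t2 : 9 * (s - a - 4) ≤ a * (s - a - 4) := by gcongr; omega
  have t3 : 6 * m < n := by nlinarith
  have t4 : m * (22 * a) ≤ m * b := by gcongr <;> omega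
  have t5 : 88 * a < 23 * m := lt_of_mul_lt_mul_left (a := b) (by linarith) b0.le
  have t6 : 22 * (a * (s - a - 4)) < 23 * m := lt_of_mul_lt_mul_left (a := b) (by linarith) b0.le
  omega

theorem arA0 {n a b m : ℤ} (hab : a ≤ b) (ha : 9 ≤ a) (h1 : a + b + 4 ≤ 2 * n)
    (h2 : a * b * (2 * n - 4 - a - b) < m * (a + b)) (h3 : 4 * (a * b) < m * (a + b))
    (h4 : m ^ 2 < 3 * n) (d1 : n ∣ m * a * b + 2) (d2 : b ∣ n * m * a - 4) : False := by
  obtain ⟨s, hs⟩ : ∃ s, s = 2 * n - b := ⟨_, rfl⟩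
  obtain ⟨t5, t8, t9⟩ := arA2 hs hab ha h1 h2 h3 h4
  obtain ⟨α, hα⟩ := d1
  obtain ⟨β, hβ⟩ := d2
  obtain ⟨γ, hγ⟩ : ∃ γ, γ = 2 * β - m * a := ⟨_, rfl⟩
  have e1 : m * a * s = 8 + b * γ := by rw [hs, hγ]; linarith
  obtain ⟨δ, hδ⟩ : ∃ δ, δ = 2 * γ - 2 * m * a + α := ⟨_, rfl⟩
  have e2 : s * γ - 6 = n * δ := by
    rw [show b = 2 * n - s by omega] at e1 hα
    rw [hδ]; linarith
  have s0 : 13 ≤ s := by omega
  clear h2 h3 hα hβ hγ hδ
  have g0 : 0 ≤ γ := by
    by_contra hc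
    have : b * γ ≤ b * -1 := by gcongr <;> omega
    have : 0 < m * a * s := mul_pos (mul_pos (by omega) (by omega)) (by omega)
    omega
  have u1 := arA1 ha t5 t8 s0 t9 h4 e1 g0
  have u2 : 0 ≤ s * γ := mul_nonneg (by omega) g0
  clear h4 e1
  have : δ = 0 := by
    by_contra hc
    rcases lt_or_gt_of_ne hc with c | c
    · have : n * δ ≤ n * -1 := by gcongr <;> omega
      omega
    · have : n * 1 ≤ n * δ := by gcongr <;> omega
      omega
  rw [this, mul_zero] at e2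
  rcases g0.eq_or_lt with c | c
  · rw [← c] at e2; omega
  · nlinarith

theorem arA {n a b m x z B : ℤ} (ha : 9 ≤ a) (hb : 9 ≤ b) (hm : 0 < m) (hx : x = m * a * b + 1)
    (hn : 5 ≤ n) (e1 : 4 * z = x * (n * m * (a + b) - 2 * (m * a * b) - 4))
    (e2 : 4 * B = n * x * (m * a * b) * (2 * n - 4 - a - b)) (B0 : 0 ≤ B) (hB : B ≤ m * z)
    (hz : z = 0 ∨ n * x * (m * a * b) ≤ m * z) (h4 : m * x ≤ 3 * n * (a * b))
    (d1 : n ∣ m * a * b + 2) (d2 : b ∣ n * m * a - 4) (d3 : a ∣ n * m * b - 4) : False := by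
  have ab : 0 < a * b := by positivity
  have y0 : 0 < m * a * b := by positivity
  have x0 : 0 < x := by omega
  have g0 : 0 < n * x * (m * a * b) := by positivity
  have h1 : 0 ≤ 2 * n - 4 - a - b := le_of_mul_le_mul_left (by linarith) g0
  rcases hz with rfl | hz
  · have h2 : 2 * n - 4 - a - b = 0 := by
      refine (mul_eq_zero.1 (e2.symm.trans (by linarith))).resolve_left g0.ne'
    have h3 := (mul_eq_zero.1 (e1.symm.trans (mul_zero 4))).resolve_left x0.ne'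
    have h5 : 4 * (a * b) ≤ (2 * n - 4) ^ 2 := by
      rw [show 2 * n - 4 = a + b by omega]; nlinarith [sq_nonneg (a - b)]
    rw [show a + b = 2 * n - 4 by omega] at h3
    nlinarith
  have p : 0 < n * x * m := by positivity
  have q : 0 < x * m * (2 * (m * a * b) + 4) := by positivity
  have h2 : a * b * (2 * n - 4 - a - b) < m * (a + b) :=
    lt_of_mul_lt_mul_left (a := n * x * m) (by nlinarith) p.le
  have h3 : 4 * (a * b) < m * (a + b) :=
    lt_of_mul_lt_mul_left (a := n * x * m) (by nlinarith) p.le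
  have h5 : m ^ 2 < 3 * n := lt_of_mul_lt_mul_left (a := a * b) (by nlinarith) ab.le
  rcases le_total a b with c | c
  · exact arA0 c ha (by omega) h2 h3 h5 d1 d2
  · exact arA0 c hb (by omega) (by linarith) (by linarith) h5 (by rwa [mul_right_comm]) d3

theorem arB1 {n x r s l ε : ℤ} (hε : ε = 1 ∨ ε = -1) (s0 : 0 < s)
    (d : x - r ∣ s * r) (h1 : (n - 1) * (r + ε) ^ 2 < 2 * (s * (x - r))) (hx : 116 ≤ x)
    (hn : n ≤ x + 1) (n5 : 5 ≤ n) (hs : s ^ 2 = l * n + 1) (hl : l = 1 ∨ l = 2) : r = 0 := by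
  by_contra r0
  have ρ0 : 0 < |r| := abs_pos.2 r0
  have h2 : x - r ≤ s * |r| :=
    Int.le_of_dvd (by positivity) (by rwa [← abs_of_pos s0, ← abs_mul, dvd_abs])
  have h3 : (|r| - 1) ^ 2 ≤ (r + ε) ^ 2 := by
    rcases hε with rfl | rfl <;> rcases abs_cases r with ⟨e, _⟩ | ⟨e, _⟩ <;> rw [e] <;> nlinarith
  have h4 : r ≤ |r| := le_abs_self r
  generalize |r| = ρ at *
  have h5 : x ≤ (s + 1) * ρ := by linarith
  have s3 : 3 ≤ s := by rcases hl with rfl | rfl <;> nlinarith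
  have h6 : s - 1 ≤ l * ρ := by
    by_contra hc
    have : (s + 1) * (l * ρ + 1) ≤ (s + 1) * (s - 1) := by gcongr; omega
    rcases hl with rfl | rfl <;> nlinarith
  have h7 : (n - 1) * (ρ - 1) ^ 2 < 2 * (l * n + 1) * ρ := by
    have : (n - 1) * (ρ - 1) ^ 2 ≤ (n - 1) * (r + ε) ^ 2 := by gcongr; omega
    rw [← hs]; nlinarith
  have h8 : 8 ≤ ρ := by
    by_contra hc
    rcases hl with rfl | rfl <;> nlinarith
  have h9 : 49 * ρ ≤ 8 * (ρ - 1) ^ 2 := by nlinarith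
  have : (n - 1) * (49 * ρ) < 16 * (l * n + 1) * ρ := by nlinarith
  have : (n - 1) * 49 < 16 * (l * n + 1) := lt_of_mul_lt_mul_right (by linarith) ρ0.le
  rcases hl with rfl | rfl <;> omega

theorem arB2 {n a b l ε j : ℤ} (hε : ε = 1 ∨ ε = -1) (ha : 9 ≤ a) (hb : 9 ≤ b) (a4 : a % 4 = 1)
    (b4 : b % 4 = 1) (ne : a ≠ b) (no : n % 2 = 1) (n5 : 5 ≤ n) (hj : a * b = j * n + 2 * ε)
    (d : a * b ∣ ε * n * (l * n + 1) * (a + b) + 4)
    (hl : ((l = 1 ∨ l = 2) ∧ (a * b - ε) * (2 * n + (a + b) - 4) ≤ 4 * n * (a * b)) ∨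
      (l = 3 ∧ ε = 1 ∧ a * b ≤ 3 * n + 1)) : False := by
  have ee : ε * ε = 1 := by rcases hε with rfl | rfl <;> rfl
  have yo : a * b % 2 = 1 := by rw [Int.mul_emod, show a % 2 = 1 by omega, show b % 2 = 1 by omega]; rfl
  have h1 : 9 * (a + b) ≤ 81 + a * b := by nlinarith
  have h2 : 4 * (a * b) ≤ (a + b) ^ 2 := by nlinarith [sq_nonneg (a - b)]
  have h3 : 22 ≤ a + b := by omega
  have h5 : ¬ (a + b = 50 ∧ a * b % 5 = 2) := fun ⟨e1, e2⟩ => by
    obtain rfl : b = 50 - a := by omega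
    have : a ≤ 41 := by omega
    interval_cases a <;> omega
  have σ4 : (a + b) % 4 = 2 := by omega
  generalize a + b = σ at *
  generalize a * b = y at *
  have y0 : 117 ≤ y := by omega
  have jo : j % 2 = 1 := by
    by_contra hc
    obtain ⟨i, rfl⟩ : 2 ∣ j := by omega
    rw [mul_assoc] at hj
    omega
  have j0 : 0 < j := by
    by_contra hc
    have : j * n ≤ 0 := by nlinarith
    rcases hε with rfl | rfl <;> omega
  have d2 : y ∣ 2 * ((j - 2 * ε * l) * σ - 2 * j ^ 2) := by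
    obtain ⟨c, hc⟩ := d
    refine ⟨-(j ^ 2 * c) + ε * σ * (l * y + j - 4 * ε * l), ?_⟩
    have e : j * n = y - 2 * ε := by linarith
    have : j ^ 2 * (ε * n * (l * n + 1) * σ + 4) = ε * (j * n) * (l * (j * n) + j) * σ + 4 * j ^ 2 := by ring
    rw [hc, e] at this
    linear_combination this - (2 * j * σ - 4 * ε * l * σ) * ee
  obtain ⟨μ, hμ⟩ : y ∣ (j - 2 * ε * l) * σ - 2 * j ^ 2 :=
    (Int.isCoprime_iff_gcd_eq_one.2 (by
      rw [Int.gcd_comm, Int.gcd_eq_one_iff]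
      intro c c1 c2
      have : c ∣ y - 2 * (y / 2) := c2.sub (c1.mul_right _)
      rwa [show y - 2 * (y / 2) = 1 by omega] at this)).dvd_of_dvd_mul_left d2
  have μ4 : 4 ∣ μ := by
    obtain ⟨i, rfl⟩ : ∃ i, j = 2 * i + 1 := ⟨j / 2, by omega⟩
    obtain ⟨τ, rfl⟩ : ∃ τ, σ = 4 * τ + 2 := ⟨σ / 4, by omega⟩
    have : (4 : ℤ) ∣ y * μ := hμ ▸ ⟨(2 * i + 1 - 2 * ε * l) * τ - i - ε * l - 2 * i ^ 2, by ring⟩
    refine (Int.isCoprime_iff_gcd_eq_one.2 ?_).dvd_of_dvd_mul_left this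
    rw [Int.gcd_eq_one_iff]
    intro c c1 c2
    have : c ∣ y * y - 4 * (y / 2 * (y / 2 + 1)) := (c2.mul_right _).sub (c1.mul_right _)
    rwa [show y * y - 4 * (y / 2 * (y / 2 + 1)) = 1 by
      obtain ⟨w, rfl⟩ : ∃ w, y = 2 * w + 1 := ⟨y / 2, by omega⟩
      rw [show (2 * w + 1) / 2 = w by omega]; ring] at this
  have m1 : μ = 0 ∨ 4 * y ≤ y * μ ∨ y * μ ≤ -(4 * y) := by
    rcases lt_trichotomy μ 0 with c | c | c
    · exact .inr (.inr (by nlinarith [show μ ≤ -4 by omega]))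
    · exact .inl c
    · exact .inr (.inl (by nlinarith [show 4 ≤ μ by omega]))
  rcases hl with ⟨hl, h⟩ | ⟨rfl, rfl, h⟩
  swap
  · obtain rfl : j = 1 := by
      by_contra hc
      nlinarith [show 3 ≤ j by omega]
    rcases m1 with rfl | c | c <;> omega
  have h6 : σ ≤ 2 * n + 4 := by
    by_contra hc
    have : 2 * n + 8 ≤ σ := by omega
    have : n ≤ j * n := le_mul_of_one_le_left (by omega) j0
    rcases hε with rfl | rfl <;> nlinarith
  obtain ⟨w, hw, w4⟩ : ∃ w, w = 2 * ε * l ∧ (w = 2 ∨ w = 4 ∨ w = -2 ∨ w = -4) :=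
    ⟨_, rfl, by rcases hε with rfl | rfl <;> rcases hl with rfl | rfl <;> simp⟩
  rw [← hw] at hμ
  have y2 : j * n - 2 ≤ y := by rcases hε with rfl | rfl <;> omega
  rcases m1 with rfl | c | c
  · have i0 : 0 < j - w := by
      by_contra hc
      nlinarith
    have : j - w ∣ 32 := by
      have h7 : j - w ∣ 2 * w ^ 2 := ⟨σ - 2 * (j + w), by linarith⟩
      rcases w4 with rfl | rfl | rfl | rfl <;> exact h7.trans (by norm_num)
    have i1 : j - w = 1 := by
      have := Int.le_of_dvd (by norm_num) this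
      have : (j - w) % 2 = 1 := by omega
      generalize j - w = i at *
      interval_cases i <;> omega
    rw [i1] at hμ
    rcases w4 with rfl | rfl | rfl | rfl
    · obtain rfl : j = 3 := by omega
      omega
    · obtain rfl : j = 5 := by omega
      rcases hε with rfl | rfl <;> omega
    · omega
    · omega
  · have h7 : (j - w) * σ ≤ (j + 4) * σ := by gcongr; omega
    have j18 : 18 ≤ j := by
      by_contra hc
      nlinarith
    nlinarith
  · by_cases j5 : 5 ≤ j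
    · have h7 : 0 ≤ (j - w) * σ := mul_nonneg (by omega) (by omega)
      have h8 : 2 * n ≤ j := by
        by_contra hc
        nlinarith
      have : σ ^ 2 ≤ (2 * n + 4) ^ 2 := by gcongr
      nlinarith
    · have : j = 1 ∨ j = 3 := by omega
      rcases this with rfl | rfl <;> rcases w4 with rfl | rfl | rfl | rfl <;> omega

theorem arC {a b x r ε : ℤ} (hε : ε = 1 ∨ ε = -1) (ha : 9 ≤ a) (hab : 22 ≤ a + b) (d : a ∣ x)
    (x0 : 0 < x) (x5 : 5 ∣ x - ε) (hr : a * r ≤ x)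
    (h : (x - r) ^ 2 * (2 * 5 + (a + b) - 4) ≤ 4 * 5 * (x * (x + ε))) : False := by
  have h0 := Int.le_of_dvd x0 d
  have h1 : 9 * r ≤ x := by
    rcases le_total r 0 with c | c
    · omega
    · nlinarith
  have h2 : (8 * x) ^ 2 ≤ (9 * (x - r)) ^ 2 := pow_le_pow_left₀ (by omega) (by omega) 2
  have h3 : (x - r) ^ 2 * 28 ≤ 20 * (x * (x + ε)) := by nlinarith [sq_nonneg (x - r)]
  rcases hε with rfl | rfl
  · have : 11 ≤ x := by omega
    nlinarith
  · nlinarith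

end H84.SC
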