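import Mathlib
import Cfsg.Agent.Base
import Cfsg.Agent.Lib.H85.AbFrob
import Cfsg.Agent.Lib.Ord.CharAux
import Cfsg.Agent.Lib.H4.B0

/-! Strongly self-centralizing subgroups and their exceptional characters. -/

set_option autoImplicit false
set_option linter.unusedSectionVars false
set_option linter.style.haveILetI false

open Cfsg Subgroup Finset H17.Ord
open scoped ComplexConjugate IsMulCommutative

namespace H84.SC

variable {G : Type*} [Group G] [Finite G] {A : Subgroup G}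

local notation "𝐍(" A ")" => Subgroup.normalizer (A : Set G)
local notation "𝐂[" a "]" => Subgroup.centralizer ({a} : Set G)

/-- strongly self-centralizing subgroups -/
structure SSC (A : Subgroup G) : Prop where
  ne : A ≠ ⊥
  cen : ∀ a ∈ A, a ≠ 1 → 𝐂[a] = A

/-- conjugates of the non-identity elements -/
def InK (A : Subgroup G) (g : G) : Prop := g ≠ 1 ∧ ∃ h, h * g * h⁻¹ ∈ A

theorem InK.of_mem {a : G} (ha : a ∈ A) (h1 : a ≠ 1) : InK A a := ⟨h1, 1, by simpa using ha⟩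

theorem InK.ord {g : G} (h : InK A g) : orderOf g ∣ Nat.card A := by
  obtain ⟨-, k, hk⟩ := h
  exact (MulAut.conj k).orderOf_eq g ▸ A.orderOf_dvd_natCard hk

theorem InK.val {g : G} (h : InK A g) {f : G → ℂ} (hf : IsClassFunction G f) {c : ℂ}
    (e : ∀ a ∈ A, a ≠ 1 → f a = c) : f g = c := by
  obtain ⟨h1, k, hk⟩ := h
  rw [← hf g k, e _ hk (by simpa using h1)]

theorem not_isConj {g a : G} (h : ¬ InK A g) (ha : a ∈ A) (h1 : a ≠ 1) : ¬ IsConj g a := fun c => by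
  obtain ⟨k, rfl⟩ := isConj_iff.1 c
  exact h ⟨by simpa using h1, k, ha⟩

/-- exceptional characters -/
structure Ex (A : Subgroup G) (e : ℕ) (δ c : ℤ) (a : IrrCharacter G → ℤ)
    (Y Z : Finset (IrrCharacter G)) : Prop where
  sign : δ = 1 ∨ δ = -1
  card : Y.card * e + 1 = Nat.card A
  two_le : 2 ≤ Y.card
  nc : ¬ (Y.card = 2 ∧ c = δ)
  mem : ∀ i, i ∈ Z ↔ i ∉ Y ∧ i ≠ triv G
  tr : triv G ∉ Y
  const : ∀ i ∈ Z, ∀ u ∈ A, u ≠ 1 → (i : G → ℂ) u = a i
  norm : (c - δ) ^ 2 + ((Y.card : ℤ) - 1) * c ^ 2 + ∑ i ∈ Z, a i ^ 2 = e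
  rel : ∀ f : IrrCharacter G → ℂ, (∀ u ∈ A, u ≠ 1 → ∑ i, f i * conj ((i : G → ℂ) u) = 0) →
    (∀ i ∈ Y, ∀ j ∈ Y, f i = f j) ∧
      ∀ i ∈ Y, ((Y.card : ℂ) * c - δ) * f i + f (triv G) + ∑ j ∈ Z, a j * f j = 0

namespace SSC

variable (h : SSC A)
include h

theorem mem {a g : G} (ha : a ∈ A) (h1 : a ≠ 1) (c : Commute g a) : g ∈ A :=
  h.cen a ha h1 ▸ mem_centralizer_singleton_iff.2 c

theorem comm {a b : G} (ha : a ∈ A) (hb : b ∈ A) : Commute a b := by
  by_cases h1 : b = 1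
  · exact h1 ▸ Commute.one_right a
  · exact mem_centralizer_singleton_iff.1 (h.cen b hb h1 ▸ ha)

theorem norm {a g : G} (ha : a ∈ A) (h1 : a ≠ 1) (c : g * a * g⁻¹ ∈ A) : g ∈ 𝐍(A) :=
  mem_normalizer_fintype fun b hb => h.mem c (by simpa using h1) ((h.comm hb ha).conj g)

theorem cent : centralizer (A : Set G) = A := by
  obtain ⟨a, ha, h1⟩ := A.bot_or_exists_ne_one.resolve_left h.ne
  exact le_antisymm (fun g hg => h.mem ha h1 (hg a ha).symm) fun a ha b hb => h.comm hb ha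

theorem inK {c g : G} (hc : InK A c) (cm : Commute g c) (h1 : g ≠ 1) : InK A g := by
  obtain ⟨c1, k, hk⟩ := hc
  exact ⟨h1, k, h.mem hk (by simpa using c1) (cm.conj k)⟩

theorem card_cent {g : G} (hg : InK A g) : Nat.card 𝐂[g] = Nat.card A := by
  obtain ⟨h1, k, hk⟩ := hg
  have h2 := H6.card_isConj_eq_index g
  have h3 := H6.card_isConj_eq_index (k * g * k⁻¹)
  rw [h.cen _ hk (by simpa using h1)] at h3
  have h4 : 𝐂[g].index = A.index := by
    rw [← h2, ← h3]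
    exact Nat.card_congr (Equiv.subtypeEquivRight fun x =>
      ⟨fun c => (isConj_iff.2 ⟨k, rfl⟩).symm.trans c, fun c => (isConj_iff.2 ⟨k, rfl⟩).trans c⟩)
  apply Nat.eq_of_mul_eq_mul_right (Nat.pos_of_ne_zero A.index_ne_zero_of_finite)
  rw [A.card_mul_index, ← h4, card_mul_index]

theorem sylow {p : ℕ} [hp : Fact p.Prime] (hd : p ∣ Nat.card A) : ∃ P : Sylow p G, P.1 ≤ A := by
  obtain ⟨a, ha⟩ := exists_prime_orderOf_dvd_card' p hd
  rw [← orderOf_coe] at ha
  have a1 : (a : G) ≠ 1 := fun e => hp.out.ne_one (by rw [← ha, e, orderOf_one])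
  obtain ⟨P, hP⟩ := (IsPGroup.of_card (G := zpowers (a : G)) (n := 1)
    (by rw [Nat.card_zpowers, ha, pow_one])).exists_le_sylow
  haveI : Nontrivial P.1 := ⟨⟨⟨a, hP (mem_zpowers _)⟩, 1, fun e => a1 (congrArg Subtype.val e)⟩⟩
  obtain ⟨z, z1⟩ := @exists_ne _ P.isPGroup'.center_nontrivial 1
  have hz := fun g (hg : g ∈ P.1) => congrArg Subtype.val (mem_center_iff.1 z.2 ⟨g, hg⟩)
  exact ⟨P, fun g hg => h.mem (h.mem a.2 a1 (hz _ (hP (mem_zpowers _))).symm)
    (fun e => z1 (Subtype.ext (Subtype.ext e))) (hz g hg)⟩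

theorem cop : (Nat.card A).Coprime A.index := Nat.coprime_of_dvd fun p hp h1 h2 => by
  haveI := Fact.mk hp
  obtain ⟨P, hP⟩ := h.sylow h1
  exact P.not_dvd_index (h2.trans (index_dvd_of_le hP))

theorem inK_of_prime {p : ℕ} (hp : p.Prime) (hd : p ∣ Nat.card A) {c : G} (hc : orderOf c = p) :
    InK A c := by
  haveI := Fact.mk hp
  obtain ⟨P, hP⟩ := h.sylow hd
  obtain ⟨Q, hQ⟩ := (IsPGroup.of_card (G := zpowers c) (n := 1)
    (by rw [Nat.card_zpowers, hc, pow_one])).exists_le_sylow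
  obtain ⟨x, rfl⟩ := MulAction.exists_smul_eq G P Q
  have := mem_pointwise_smul_iff_inv_smul_mem.1 (hQ (mem_zpowers _))
  exact ⟨fun e => hp.ne_one (by rw [← hc, e, orderOf_one]), x⁻¹, hP (by rwa [← map_inv] at this)⟩

theorem cop_cent {g : G} (hg : ¬ InK A g) (h1 : g ≠ 1) : (Nat.card A).Coprime (Nat.card 𝐂[g]) :=
  Nat.coprime_of_dvd fun p hp d1 d2 => by
    haveI := Fact.mk hp
    obtain ⟨c, hc⟩ := exists_prime_orderOf_dvd_card' p d2
    exact hg (h.inK (h.inK_of_prime hp d1 ((orderOf_coe c).trans hc))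
      (mem_centralizer_singleton_iff.1 c.2).symm h1)

theorem cop_of_ne {B : Subgroup G} (h' : SSC B) (hn : ∀ g, A.map (MulAut.conj g).toMonoidHom ≠ B) :
    (Nat.card A).Coprime (Nat.card B) := Nat.coprime_of_dvd fun p hp d1 d2 => by
  haveI := Fact.mk hp
  obtain ⟨c, hc⟩ := exists_prime_orderOf_dvd_card' p d1
  obtain ⟨c1, k, hk⟩ := h'.inK_of_prime hp d2 ((orderOf_coe c).trans hc)
  refine hn k (le_antisymm ?_ fun b hb => ⟨k⁻¹ * b * k, h.mem c.2 c1 ?_, by simp [mul_assoc]⟩)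
  · rintro _ ⟨a, ha, rfl⟩
    exact h'.mem hk (by simpa using c1) ((h.comm ha c.2).conj k)
  · simpa [mul_assoc] using (h'.comm hb hk).conj k⁻¹

open Classical in
theorem card_K [Fintype G] :
    Nat.card 𝐍(A) * #{g | InK A g} + Nat.card G = Nat.card A * Nat.card G := by
  have key : ∀ g : G, #{k | k * g * k⁻¹ ∈ A} =
      (if InK A g then Nat.card 𝐍(A) else 0) + if g = 1 then Nat.card G else 0 := fun g => by
    by_cases h1 : g = 1
    · simp [h1, InK, A.one_mem]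
    by_cases h2 : InK A g
    · obtain ⟨-, l, hl⟩ := id h2
      rw [if_pos h2, if_neg h1, add_zero, ← Fintype.card_subtype, ← Nat.card_eq_fintype_card]
      refine Nat.card_congr ⟨fun k => ⟨k * l⁻¹, h.norm hl (by simpa using h1)
        (by simpa [mul_assoc] using k.2)⟩, fun n => ⟨n * l, ?_⟩, fun k => by simp, fun k => by simp⟩
      simpa [mul_assoc] using (mem_normalizer_iff.1 n.2 _).1 hl
    · rw [if_neg h2, if_neg h1, card_eq_zero, filter_eq_empty_iff]
      exact fun k _ hk => h2 ⟨h1, k, hk⟩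
  have e : ∑ g : G, #{k | k * g * k⁻¹ ∈ A} = ∑ k : G, #{g | k * g * k⁻¹ ∈ A} := by
    simp only [card_filter]; exact sum_comm
  rw [sum_congr rfl fun g _ => key g, sum_add_distrib, ← sum_filter, sum_const, sum_ite_eq',
    if_pos (mem_univ _), smul_eq_mul, mul_comm] at e
  rw [e, sum_congr rfl (g := fun _ => Nat.card A) fun k _ => ?_, sum_const, card_univ, smul_eq_mul,
    mul_comm, Nat.card_eq_fintype_card (α := G)]
  rw [← Fintype.card_subtype, ← Nat.card_eq_fintype_card]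
  exact Nat.card_congr ⟨fun g => ⟨k * g * k⁻¹, g.2⟩, fun a => ⟨k⁻¹ * a * k,
    by simp [mul_assoc]⟩, fun g => by simp [mul_assoc], fun g => by simp [mul_assoc]⟩

omit h in
theorem _root_.H84.SC.dvd_sub {θ : G → ℂ} (hθ : IsGeneralizedCharacter G θ) {c d : ℤ}
    (hc : ∀ a ∈ A, a ≠ 1 → θ a = c) (hd : θ 1 = d) : (Nat.card A : ℤ) ∣ d - c :=
  H4.int_dvd_of_vanish (ψ := θ - c • fun _ => 1) (H6.isGen_sub hθ (H6.isGen_zsmul c H6.isGen_one)) A
    (fun a ha h1 => by simp [hc a ha h1]) (by simp [hd])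

theorem index_mod : (Nat.card A : ℤ) ∣ A.index - A.relIndex 𝐍(A) := by
  classical
  haveI := Fintype.ofFinite G
  refine dvd_sub (θ := indFun A fun _ => 1) (H6.char_isGen ?_) (fun a ha h1 => ?_) ?_
  · exact funext (H7.indFun_one_eq_card_fixedBy A) ▸ H6.isCharacter_fixedBy _
  · rw [H7.indFun_apply', sum_congr rfl (g := fun k => if k ∈ 𝐍(A) then 1 else 0) fun k _ => ?_,
      sum_boole, Int.cast_natCast, inv_mul_eq_iff_eq_mul₀ H6.card_ne_zero, ← Nat.cast_mul,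
      H1.card_mul_relIndex_of_le le_normalizer, Nat.card_eq_fintype_card, Fintype.card_subtype]
    rw [H7.extendByZero_apply]
    by_cases hk : k ∈ 𝐍(A)
    · rw [if_pos hk, dif_pos ((mem_normalizer_iff.1 hk _).1 ha)]
    · rw [if_neg hk, dif_neg fun c => hk (h.norm ha h1 c)]
  · rw [H7.indFun_one]; simp

theorem inverts (ho : Odd (Nat.card A)) {t a : G} (ht : orderOf t = 2) (hn : t ∈ 𝐍(A)) (ha : a ∈ A) :
    t * a * t⁻¹ = a⁻¹ := by
  have tt : t * t = 1 := by rw [← sq, ← ht, pow_orderOf_eq_one]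
  have h1 := (mem_normalizer_iff.1 hn _).1 ha
  by_contra hc
  refine Nat.not_even_iff_odd.2 ho (even_iff_two_dvd.2 (ht ▸ A.orderOf_dvd_natCard
    (h.mem (A.mul_mem ha h1) (fun e => hc (eq_inv_of_mul_eq_one_right e)) ?_)))
  calc t * (a * (t * a * t⁻¹)) = t * a * t⁻¹ * (t * t * a * (t * t)⁻¹) * t := by group
    _ = _ := by rw [tt, inv_one, mul_one, one_mul, (h.comm ha h1).eq]

theorem isConj_mul (ho : Odd (Nat.card A)) {t a : G} (ht : orderOf t = 2) (hn : t ∈ 𝐍(A))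
    (ha : a ∈ A) : IsConj t (t * a) := by
  obtain ⟨k, hk⟩ := ho
  have h1 : a ^ (2 * k + 1) = 1 :=
    orderOf_dvd_iff_pow_eq_one.1 (hk ▸ A.orderOf_dvd_natCard ha)
  have h2 := h.inverts ⟨k, hk⟩ ht hn (A.pow_mem ha k)
  refine isConj_iff.2 ⟨a ^ k, ?_⟩
  calc _ = (t * a ^ k * t⁻¹)⁻¹ * t * (a ^ k)⁻¹ := by rw [h2, inv_inv]
    _ = t * (a * (a ^ (2 * k + 1))⁻¹) := by group
    _ = _ := by rw [h1, inv_one, mul_one]

theorem coef (ho : Odd (Nat.card A)) {u t g : G} (hu : orderOf u = 2) (hn : u ∈ 𝐍(A))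
    (ht : orderOf t = 2) (hg : InK A g) : (IsConj t u ∧ H31.classCoeff t t g = Nat.card A) ∨
      (¬ IsConj t u ∧ H31.classCoeff t t g = 0) := by
  obtain ⟨g1, k, hk⟩ := hg
  have e := H31.isClassFunction_classCoeff t t g k
  rw [Nat.cast_inj] at e
  rw [← e]
  have a1 : k * g * k⁻¹ ≠ 1 := by simpa using g1
  generalize k * g * k⁻¹ = a at hk a1
  have tt : t * t = 1 := by rw [← sq, ← ht, pow_orderOf_eq_one]
  have key : ∀ v w, IsConj t v → IsConj t w → v * w = a → u⁻¹ * v ∈ A := fun v w hv hw e => by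
    have k1 := H33.mul_self_of_isConj tt hv
    have k2 := H33.mul_self_of_isConj tt hw
    have : v * a * v⁻¹ = a⁻¹ := by
      rw [← e, mul_inv_rev, inv_eq_of_mul_eq_one_right k1, inv_eq_of_mul_eq_one_right k2,
        ← mul_assoc, k1, one_mul]
    refine h.mem hk a1 ?_
    calc u⁻¹ * v * a = u⁻¹ * (v * a * v⁻¹) * v := by group
      _ = _ := by rw [this, ← h.inverts ho hu hn hk]; group
  by_cases hc : IsConj t u
  · refine .inl ⟨hc, Nat.card_congr ⟨fun p => ⟨_, key _ _ p.2.1 p.2.2.1 p.2.2.2⟩,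
      fun b => ⟨(u * b, (u * b)⁻¹ * a), hc.trans (h.isConj_mul ho hu hn b.2), hc.trans ?_,
        mul_inv_cancel_left _ _⟩,
      fun p => Subtype.ext (Prod.ext (by simp) (by simp [← p.2.2.2])), fun b => by simp⟩⟩
    have : (u * b)⁻¹ = u * b := inv_eq_of_mul_eq_one_right
      (H33.mul_self_of_isConj tt (hc.trans (h.isConj_mul ho hu hn b.2)))
    rw [this, mul_assoc]
    exact h.isConj_mul ho hu hn (A.mul_mem b.2 hk)
  · refine .inr ⟨hc, Nat.card_eq_zero.2 (.inl ⟨fun ⟨⟨v, w⟩, hv, hw, e⟩ => hc (hv.trans ?_)⟩)⟩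
    simpa using (h.isConj_mul ho hu hn (key v w hv hw e)).symm

theorem odd (he : 2 ∣ A.relIndex 𝐍(A)) : Odd (Nat.card A) :=
  Nat.coprime_two_right.1 (h.cop.coprime_dvd_right (he.trans (relIndex_dvd_index_of_le le_normalizer)))

omit h in
theorem _root_.H84.SC.exists_invol (he : 2 ∣ A.relIndex 𝐍(A)) : ∃ u ∈ 𝐍(A), orderOf u = 2 := by
  obtain ⟨u, hu⟩ := exists_prime_orderOf_dvd_card' (G := 𝐍(A)) 2
    (H1.card_mul_relIndex_of_le (le_normalizer (H := A)) ▸ he.mul_left _)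
  exact ⟨u, u.2, (orderOf_coe u).trans hu⟩

theorem exists_ex {e : ℕ} (he : A.relIndex 𝐍(A) = e) (hr : e + 1 < Nat.card A) :
    ∃ δ c a Y Z, Ex A e δ c a Y Z := by
  classical
  haveI : IsMulCommutative A := ⟨⟨fun a b => Subtype.ext (h.comm a.2 b.2)⟩⟩
  haveI := Fintype.ofFinite A
  haveI := Fintype.ofFinite (H85.autz A)
  have hE : Nat.card (H85.autz A) = e := by rw [H85.card_autz, h.cent, he]
  have fr : H85.FrobAut A := fun y hy h1 => by rw [h.cen y hy h1, h.cent, inf_eq_left.2 le_normalizer]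
  have ne : ∀ {u : A}, u ≠ 1 → (u : G) ≠ 1 := fun hu e => hu (Subtype.ext e)
  obtain ⟨δ, c, ζ, a, Y, hX, hc⟩ := H85.exists_exc fr.free (by rwa [← Nat.card_eq_fintype_card, hE])
    (fun (χ : IrrCharacter G) (u : A) => (χ : G → ℂ) u) (fun χ => dg χ)
    (fun χ => by exact_mod_cast dg_pos χ)
    (fun u v hu hv huv => H6.column_orthogonality_not_isConj fun c => by
      obtain ⟨g, hg⟩ := isConj_iff.1 c
      exact huv ⟨_, ⟨⟨g, h.norm u.2 (ne hu) (hg ▸ v.2)⟩, rfl⟩, Subtype.ext hg⟩)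
    (fun u hu e he => by
      rw [H6.column_orthogonality_isConj (H85.isConj_autz he u), h.cen u u.2 (ne hu),
        Nat.card_eq_fintype_card])
    (fun χ ψ => H85.coef_int_of_gen (H6.isGen_restrict _ (H6.irr_isGen χ.2)) ψ)
    (fun u hu => by
      have := H6.column_orthogonality_not_isConj (g := 1) (h := (u : G))
        (by rw [isConj_one_right]; exact ne hu)
      simpa only [dg_cast, Int.cast_natCast] using this)
  have h1 : triv G ∉ Y := fun h1 => hX.not_const fr.free h1 1 fun u _ => rfl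
  obtain ⟨u, hu, u1⟩ := A.bot_or_exists_ne_one.resolve_left h.ne
  have ha1 : a (triv G) = 1 := by
    have := hX.const _ h1 ⟨u, hu⟩ fun e => u1 (congrArg Subtype.val e)
    rw [triv_apply] at this
    exact_mod_cast this.symm
  have sp := fun {M : Type} [AddCommMonoid M] (f : IrrCharacter G → M) =>
    add_sum_erase Yᶜ f (mem_compl.2 h1)
  have h2 := hX.card
  have h3 := hX.norm
  rw [hE, ← Nat.card_eq_fintype_card] at h2
  rw [hE, ← sp, ha1] at h3
  refine ⟨δ, c, a, Y, Yᶜ.erase (triv G), hX.sign, by omega, hX.two_le, hc, fun i => by simp [and_comm],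
    h1, fun i hi v hv v1 => hX.const i (by simpa using mem_of_mem_erase hi) ⟨v, hv⟩
      fun e => v1 (congrArg Subtype.val e), by linarith, fun f hf => ?_⟩
  obtain ⟨r1, r2⟩ := hX.rel f fun v hv => hf v v.2 (ne hv)
  refine ⟨r1, fun i hi => ?_⟩
  rw [← r2 i hi, ← sp, ha1]
  push_cast
  ring

end SSC

end H84.SC
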