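import Mathlib
import Cfsg.Agent.Base
import Cfsg.Agent.Lib.SSC.Basic

/-! Strongly self-centralizing subgroups of index two in their normalizer. -/

set_option autoImplicit false
set_option linter.unusedSectionVars false
set_option linter.style.haveILetI false

open Cfsg Subgroup Finset H17.Ord
open scoped ComplexConjugate

namespace H84.SC

variable {G : Type*} [Group G] [Finite G] {A B : Subgroup G}

local notation "𝐍(" A ")" => Subgroup.normalizer (A : Set G)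
local notation "𝐂[" a "]" => Subgroup.centralizer ({a} : Set G)

theorem not_inK_one : ¬ InK A 1 := fun h => h.1 rfl

theorem eq_zero_of_sum_sq {I : Type*} {Z : Finset I} {a : I → ℤ} (h : ∑ i ∈ Z, a i ^ 2 = 0)
    (f : I → ℂ) : ∑ i ∈ Z, a i * f i = 0 := sum_eq_zero fun i hi => by
  rw [pow_eq_zero_iff two_ne_zero |>.1 ((sum_eq_zero_iff_of_nonneg fun _ _ => sq_nonneg _).1 h i hi)]
  simp

theorem sum_sq_eq_one {I : Type*} {Z : Finset I} {a : I → ℤ} (h : ∑ i ∈ Z, a i ^ 2 = 1) :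
    ∃ χ ∈ Z, (a χ = 1 ∨ a χ = -1) ∧ (∀ i ∈ Z, i ≠ χ → a i = 0) ∧
      ∀ f : I → ℂ, ∑ i ∈ Z, a i * f i = a χ * f χ := by
  classical
  obtain ⟨χ, hχ, h1⟩ := exists_ne_zero_of_sum_ne_zero (h.trans_ne one_ne_zero)
  rw [← add_sum_erase _ _ hχ] at h
  have h2 : 0 ≤ ∑ i ∈ Z.erase χ, a i ^ 2 := sum_nonneg fun _ _ => sq_nonneg _
  have h3 := (sq_nonneg (a χ)).lt_of_ne' h1
  refine ⟨χ, hχ, sq_eq_one_iff.1 (by omega), fun i hi ne => pow_eq_zero_iff two_ne_zero |>.1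
    ((sum_eq_zero_iff_of_nonneg fun _ _ => sq_nonneg _).1 (by omega) i (mem_erase.2 ⟨ne, hi⟩)),
    fun f => ?_⟩
  rw [← add_sum_erase _ _ hχ, eq_zero_of_sum_sq (by omega), add_zero]

namespace Ex

variable {e : ℕ} {δ c : ℤ} {a : IrrCharacter G → ℤ} {Y Z : Finset (IrrCharacter G)}
  (h : Ex A e δ c a Y Z)
include h

theorem rel0 {g : G} (hg : ¬ InK A g) : (∀ i ∈ Y, ∀ j ∈ Y, (i : G → ℂ) g = (j : G → ℂ) g) ∧
    ∀ i ∈ Y, ((Y.card : ℂ) * c - δ) * (i : G → ℂ) g + 1 + ∑ j ∈ Z, a j * (j : G → ℂ) g = 0 :=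
  h.rel (fun i => (i : G → ℂ) g) fun _ hu h1 =>
    H6.column_orthogonality_not_isConj (not_isConj hg hu h1)

theorem relK {t : G} {m : ℕ} (hm : ∀ u ∈ A, u ≠ 1 → H31.classCoeff t t u = m) {i : IrrCharacter G}
    (hi : i ∈ Y) : (((Y.card : ℂ) * c - δ) * ((i : G → ℂ) t ^ 2 / dg i) + 1 +
      ∑ j ∈ Z, a j * ((j : G → ℂ) t ^ 2 / dg j)) * Nat.card G = m * (Nat.card 𝐂[t] : ℂ) ^ 2 := by
  classical
  have g0 : (Nat.card G : ℂ) ≠ 0 := H6.card_ne_zero
  have ci : (Nat.card 𝐂[t] : ℂ) * 𝐂[t].index = Nat.card G := by exact_mod_cast card_mul_index 𝐂[t]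
  have := (h.rel (fun j => (j : G → ℂ) t ^ 2 / dg j -
    if j = triv G then m * (Nat.card 𝐂[t] : ℂ) ^ 2 / Nat.card G else 0) fun u hu h1 => by
      have f := H31.classCoeff_eq t t u
      simp only [sub_mul, sum_sub_distrib, ite_mul, zero_mul, sum_ite_eq', mem_univ, if_true,
        triv_apply, map_one, mul_one]
      rw [← hm u hu h1, f, sum_congr rfl (g := fun χ : IrrCharacter G => (χ : G → ℂ) t * (χ : G → ℂ) t *
        conj ((χ : G → ℂ) u) / (χ : G → ℂ) 1) fun χ _ => by rw [dg_cast]; ring]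
      field_simp
      rw [← ci]; ring).2 i hi
  rw [if_neg (ne_of_mem_of_not_mem hi h.tr), if_pos rfl, sum_congr rfl
    (g := fun j => a j * ((j : G → ℂ) t ^ 2 / dg j)) fun j hj => by rw [if_neg ((h.mem j).1 hj).2, sub_zero],
    triv_apply, dg_triv] at this
  rw [← eq_div_iff g0]
  linear_combination this

theorem one_le : 1 ≤ (c - δ) ^ 2 + ((Y.card : ℤ) - 1) * c ^ 2 ∧
    ((c - δ) ^ 2 + ((Y.card : ℤ) - 1) * c ^ 2 = 1 → c = 0) := by
  have h1 : (2 : ℤ) ≤ Y.card := by exact_mod_cast h.two_le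
  have h2 : c = δ → (3 : ℤ) ≤ Y.card := fun e => by
    have : Y.card ≠ 2 := fun e' => h.nc ⟨e', e⟩
    omega
  by_cases c0 : c = 0
  · rcases h.sign with rfl | rfl <;> simp [c0]
  have h3 : 0 < c ^ 2 := by positivity
  by_cases e : c = δ
  · have := h2 e
    exact ⟨by nlinarith [sq_nonneg (c - δ)], fun _ => by nlinarith [sq_nonneg (c - δ)]⟩
  · have : 0 < (c - δ) ^ 2 := by have := sub_ne_zero.2 e; positivity
    exact ⟨by nlinarith, fun _ => by nlinarith⟩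

/-- a relation with small support does not meet the exceptional characters -/
theorem not_mem {f : IrrCharacter G → ℂ} (hf : ∀ u ∈ A, u ≠ 1 → ∑ i, f i * conj ((i : G → ℂ) u) = 0)
    {i : IrrCharacter G} (h1 : ∀ j, j ≠ i → j ≠ triv G → f j ≠ f i) : i ∉ Y := fun hi => by
  obtain ⟨j, hj, ne⟩ := exists_mem_ne (lt_of_lt_of_le one_lt_two h.two_le) i
  exact h1 j ne (ne_of_mem_of_not_mem hj h.tr) ((h.rel f hf).1 j hj i hi)

end Ex

/-- the characters for index two -/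
structure T2 (A : Subgroup G) (ε : ℤ) (χ : IrrCharacter G) (Y : Finset (IrrCharacter G)) (x y : ℕ) :
    Prop where
  ssc : SSC A
  idx : A.relIndex 𝐍(A) = 2
  sign : ε = 1 ∨ ε = -1
  card : Y.card * 2 + 1 = Nat.card A
  two_le : 2 ≤ Y.card
  ne1 : χ ≠ triv G
  cY : χ ∉ Y
  tr : triv G ∉ Y
  dx : dg χ = x
  dy : ∀ X ∈ Y, dg X = y
  yx : (y : ℤ) = x + ε
  valK : ∀ g, InK A g → (χ : G → ℂ) g = ε
  off : ∀ g, ¬ InK A g → ∀ X ∈ Y, (X : G → ℂ) g = (χ : G → ℂ) g + ε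
  ord : ∀ (t : G) (m : ℕ) (r : ℤ), (∀ u ∈ A, u ≠ 1 → H31.classCoeff t t u = m) → (χ : G → ℂ) t = r →
    ¬ InK A t → (Nat.card G : ℤ) * (x - r) ^ 2 = m * (Nat.card 𝐂[t] : ℤ) ^ 2 * (x * y)

theorem SSC.exists_T2 [IsSimpleGroup G] (hna : ∃ a b : G, a * b ≠ b * a) (h : SSC A)
    (he : A.relIndex 𝐍(A) = 2) (hn : 3 < Nat.card A) : ∃ ε χ Y x y, T2 A ε χ Y x y := by
  obtain ⟨δ, c, a, Y, Z, hX⟩ := h.exists_ex he hn
  obtain ⟨X, hY⟩ := card_pos.1 (lt_of_lt_of_le two_pos hX.two_le)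
  obtain ⟨o1, o2⟩ := hX.one_le
  have nr := hX.norm
  have h1 := (hX.rel0 not_inK_one).2
  simp only [dg_cast] at h1
  have h2 : 0 ≤ ∑ i ∈ Z, a i ^ 2 := sum_nonneg fun _ _ => sq_nonneg _
  have t2 : (2 : ℤ) ≤ Y.card := by exact_mod_cast hX.two_le
  have s1 : ∑ i ∈ Z, a i ^ 2 = 1 := by
    by_contra hc
    have h3 := h1 X hY
    rw [eq_zero_of_sum_sq (by push_cast at nr; omega), add_zero] at h3
    have h4 : ((Y.card : ℤ) * c - δ) * dg X + 1 = 0 := by exact_mod_cast h3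
    have h5 : (c - δ) ^ 2 + ((Y.card : ℤ) - 1) * c ^ 2 = 2 := by push_cast at nr; omega
    have h6 : dg X ≠ 1 := fun e => hX.tr (eq_triv_of_dg hna e ▸ hY)
    have := Int.eq_one_of_mul_eq_one_left (a := -((Y.card : ℤ) * c - δ)) (by positivity)
      (by linarith : _ * (dg X : ℤ) = 1)
    omega
  obtain rfl := o2 (by push_cast at nr; omega)
  obtain ⟨χ, hχ, sg, -, hs⟩ := sum_sq_eq_one s1
  obtain ⟨cY, c1⟩ := (hX.mem χ).1 hχ
  have d1 : dg χ ≠ 1 := fun e => c1 (eq_triv_of_dg hna e)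
  have h3 := h1 X hY
  rw [hs] at h3
  have h4 : -δ * dg X + 1 + a χ * dg χ = 0 := by
    have : ((-δ * dg X + 1 + a χ * dg χ : ℤ) : ℂ) = 0 := by push_cast at h3 ⊢; linear_combination h3
    exact_mod_cast this
  have p1 := dg_pos X
  have p2 := dg_pos χ
  have e : a χ = δ := by rcases hX.sign with e | e <;> rcases sg with e' | e' <;> rw [e, e'] at h4 ⊢ <;> omega
  have ee : (δ : ℂ) * δ = 1 := by rcases hX.sign with e | e <;> simp [e]
  have yx : (dg X : ℤ) = dg χ + δ := by rcases hX.sign with e' | e' <;> rw [e, e'] at h4 <;> omega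
  have off : ∀ g, ¬ InK A g → ∀ X ∈ Y, (X : G → ℂ) g = (χ : G → ℂ) g + δ := fun g hg X hX' => by
    have := (hX.rel0 hg).2 X hX'
    rw [hs, e] at this
    push_cast at this
    linear_combination (-δ) * this + ((χ : G → ℂ) g - (X : G → ℂ) g) * ee
  refine ⟨δ, χ, Y, dg χ, dg X, h, he, hX.sign, hX.card, hX.two_le, c1, cY, hX.tr, rfl, fun X' hX' => ?_, yx,
    fun g hg => hg.val (irr_cls χ) fun u hu u1 => e ▸ hX.const χ hχ u hu u1, off,
    fun t m r hm hr ht => ?_⟩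
  · have := (hX.rel0 not_inK_one).1 X' hX' X hY
    rw [dg_cast, dg_cast] at this
    exact_mod_cast this
  · have f := hX.relK hm hY
    have yx' : (dg X : ℂ) = dg χ + δ := by exact_mod_cast yx
    have d0 : (dg χ : ℂ) ≠ 0 := Nat.cast_ne_zero.2 p2.ne'
    have d1 : (dg χ : ℂ) + δ ≠ 0 := yx' ▸ Nat.cast_ne_zero.2 p1.ne'
    rw [hs, off t ht X hY, hr, e, yx'] at f
    have : (Nat.card G : ℂ) * (dg χ - r) ^ 2 = m * (Nat.card 𝐂[t] : ℂ) ^ 2 * (dg χ * dg X) := by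
      rw [← f, yx']
      field_simp
      push_cast
      linear_combination (-(Nat.card G : ℂ) * (r ^ 2 - 2 * r * dg χ - dg χ * δ)) * ee
    exact_mod_cast this

end H84.SC
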