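import Mathlib
import Cfsg.Agent.Base
import Cfsg.Agent.Lib.SSC.Two

/-! Strongly self-centralizing subgroups of index two and four. -/

set_option autoImplicit false
set_option linter.unusedSectionVars false
set_option linter.style.haveILetI false

open Cfsg Subgroup Finset H17.Ord
open scoped ComplexConjugate

namespace H84.SC

variable {G : Type*} [Group G] [Finite G] {A B : Subgroup G}

local notation "𝐍(" A ")" => Subgroup.normalizer (A : Set G)
local notation "𝐂[" a "]" => Subgroup.centralizer ({a} : Set G)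

theorem not_inK_of_cop {g : G} (h : (Nat.card A).Coprime (orderOf g)) : ¬ InK A g := fun c =>
  c.1 (orderOf_eq_one_iff.1 (Nat.eq_one_of_dvd_coprimes h c.ord dvd_rfl))

theorem SSC.not_inK_two (h : SSC A) (he : 2 ∣ A.relIndex 𝐍(A)) {t : G} (ht : orderOf t = 2) :
    ¬ InK A t := not_inK_of_cop (ht ▸ Nat.coprime_two_right.2 (h.odd he))

theorem not_inK_of_inK (hc : (Nat.card A).Coprime (Nat.card B)) {g : G} (hg : InK B g) : ¬ InK A g :=
  not_inK_of_cop (hc.coprime_dvd_right hg.ord)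

/-- the trace of an inverting involution is bounded by the fixed dimension -/
theorem SSC.sign_bound (h : SSC B) (he : 2 ∣ B.relIndex 𝐍(B)) {t : G} (ht : orderOf t = 2)
    (hn : t ∈ 𝐍(B)) {χ : G → ℂ} (hχ : IsCharacter G χ) {x r : ℤ} (h1 : χ 1 = x) (hr : χ t = r)
    (h0 : ∀ b ∈ B, b ≠ 1 → χ b = 0) : Nat.card B * r ≤ x := by
  classical
  have tB : t ∉ B := fun c => h.not_inK_two he ht (.of_mem c fun e => by simp [e] at ht)
  have tt : t * t = 1 := by rw [← sq, ← ht, pow_orderOf_eq_one]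
  have ti : t⁻¹ = t := inv_eq_of_mul_eq_one_right tt
  have cj : ∀ {b}, b ∈ B → t * b * t ∈ B := fun hb => by
    have := (mem_normalizer_iff.1 hn _).1 hb
    rwa [ti] at this
  let D : Subgroup G :=
    { carrier := {g | g ∈ B ∨ t * g ∈ B}
      one_mem' := .inl B.one_mem
      mul_mem' := by
        rintro a b (ha | ha) (hb | hb)
        · exact .inl (B.mul_mem ha hb)
        · exact .inr (by simpa [mul_assoc, ← mul_assoc t t, tt] using B.mul_mem (cj ha) hb)
        · exact .inr (by simpa [mul_assoc] using B.mul_mem ha hb)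
        · exact .inl (by simpa [mul_assoc, ← mul_assoc t t, tt] using B.mul_mem (cj ha) hb)
      inv_mem' := by
        rintro a (ha | ha)
        · exact .inl (B.inv_mem ha)
        · exact .inr (by simpa [mul_assoc, ti, tt] using cj (B.inv_mem ha)) }
  have nb : ∀ {g}, g ∈ B → t * g ∉ B := fun hg c => tB ((B.mul_mem_cancel_right hg).1 c)
  have ix : (B.subgroupOf D).index = 2 := index_eq_two_iff'.2 ⟨⟨t, .inr (tt ▸ B.one_mem)⟩, fun b =>
    b.2.elim (fun c => .inr ⟨c, nb c⟩) fun c => .inl ⟨c, fun c' => nb c' c⟩⟩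
  let s : D →* ℂˣ := MonoidHom.mk' (fun g => if g ∈ B.subgroupOf D then 1 else -1) fun a b => by
    by_cases ha : a ∈ B.subgroupOf D <;> by_cases hb : b ∈ B.subgroupOf D <;>
      simp [mul_mem_iff_of_index_two ix, ha, hb]
  haveI := Fintype.ofFinite G
  obtain ⟨m, hm⟩ := H6.char_inner_nat (H6.isCharacter_restrict D hχ) (H6.isCharacter_hom s)
  rw [H6.classInner_def, inv_mul_eq_iff_eq_mul₀ H6.card_ne_zero, sum_congr rfl
    (g := fun g : D => (if g = 1 then (x : ℂ) else 0) - r + if g ∈ B.subgroupOf D then (r : ℂ) else 0)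
    fun g _ => ?_, sum_add_distrib, sum_sub_distrib, sum_ite_eq', if_pos (mem_univ _), ← sum_filter,
    sum_const, sum_const, card_univ, ← Fintype.card_subtype, ← Nat.card_eq_fintype_card,
    ← Nat.card_eq_fintype_card, ← (B.subgroupOf D).card_mul_index, ix,
    Nat.card_congr (subgroupOfEquivOfLe (show B ≤ D from fun _ => .inl)).toEquiv] at hm
  · have : ((x - Nat.card B * r : ℤ) : ℂ) = (Nat.card B * 2 * m : ℕ) := by
      push_cast at hm ⊢
      simp only [nsmul_eq_mul] at hm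
      push_cast at hm
      linear_combination hm
    have : x - Nat.card B * r = (Nat.card B * 2 * m : ℕ) := by exact_mod_cast this
    omega
  · by_cases hg : g ∈ B.subgroupOf D
    · by_cases g1 : g = 1
      · simp [g1, h1]
      · simp [s, hg, g1, h0 g hg fun e => g1 (Subtype.ext e)]
    · have g1 : g ≠ 1 := fun e => hg (e ▸ one_mem _)
      have := H6.classFun_of_isConj (H6.char_isClassFunction hχ)
        (h.isConj_mul (h.odd he) ht hn (g.2.resolve_left hg))
      rw [← mul_assoc, tt, one_mul, hr] at this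
      simp [s, hg, g1, ← this]

/-- index two, with the class of involutions -/
structure T3 (A : Subgroup G) (ε : ℤ) (χ : IrrCharacter G) (Y : Finset (IrrCharacter G)) (x y : ℕ)
    (u : G) (r : ℤ) : Prop extends T2 A ε χ Y x y where
  u2 : orderOf u = 2
  cls : ∀ t, orderOf t = 2 → IsConj t u
  val : (χ : G → ℂ) u = r
  lt : r < x
  eq : (Nat.card G : ℤ) * (x - r) ^ 2 = Nat.card A * (Nat.card 𝐂[u] : ℤ) ^ 2 * (x * y)

variable {ε r : ℤ} {χ : IrrCharacter G} {Y : Finset (IrrCharacter G)} {x y : ℕ} {u : G}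

theorem T2.exists_T3 [IsSimpleGroup G] (hna : ∃ a b : G, a * b ≠ b * a) (h : T2 A ε χ Y x y) :
    ∃ u r, T3 A ε χ Y x y u r := by
  have he : 2 ∣ A.relIndex 𝐍(A) := h.idx ▸ dvd_rfl
  obtain ⟨u, hn, hu⟩ := exists_invol he
  have d1 : dg χ ≠ 1 := fun e => h.ne1 (eq_triv_of_dg hna e)
  have cls : ∀ t, orderOf t = 2 → IsConj t u := fun t ht => by
    by_contra hc
    obtain ⟨r, hr, -, -, lt⟩ := invol_val hna d1 ht
    have := h.ord t 0 r (fun a ha a1 => ((h.ssc.coef (h.ssc.odd he) hu hn ht (.of_mem ha a1)).resolve_left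
      fun c => hc c.1).2) hr (h.ssc.not_inK_two he ht)
    rw [h.dx] at lt
    have : 0 < (Nat.card G : ℤ) * (x - r) ^ 2 :=
      mul_pos (by exact_mod_cast Nat.card_pos) (pow_pos (by omega) 2)
    simp_all only [Nat.cast_zero, zero_mul, lt_self_iff_false]
  obtain ⟨r, hr, -, -, lt⟩ := invol_val hna d1 hu
  exact ⟨u, r, h, hu, cls, hr, h.dx ▸ lt, h.ord u _ r (fun a ha a1 => ((h.ssc.coef (h.ssc.odd he) hu hn hu
    (.of_mem ha a1)).resolve_right fun c => c.1 (IsConj.refl u)).2) hr (h.ssc.not_inK_two he hu)⟩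

namespace T3

variable (h : T3 A ε χ Y x y u r)
include h

theorem two_dvd : 2 ∣ A.relIndex 𝐍(A) := h.idx ▸ dvd_rfl

theorem coef (hB : SSC B) (he : 2 ∣ B.relIndex 𝐍(B)) {g : G} (hg : InK B g) :
    H31.classCoeff u u g = Nat.card B := by
  obtain ⟨t, hn, ht⟩ := exists_invol he
  exact ((hB.coef (hB.odd he) ht hn h.u2 hg).resolve_right fun c => c.1 (h.cls t ht).symm).2

theorem one : (χ : G → ℂ) 1 = x := by rw [dg_cast, h.dx]

theorem oneY {X : IrrCharacter G} (hX : X ∈ Y) : (X : G → ℂ) 1 = y := by rw [dg_cast, h.dy X hX]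

theorem x_pos : 0 < x := h.dx ▸ dg_pos χ

theorem dvdA : (Nat.card A : ℤ) ∣ x - ε :=
  dvd_sub (H6.irr_isGen χ.2) (fun _ ha a1 => h.valK _ (.of_mem ha a1)) h.one

theorem exists_Y : ∃ X, X ∈ Y := card_pos.1 (lt_of_lt_of_le two_pos h.two_le)

theorem valY {X : IrrCharacter G} (hX : X ∈ Y) : (X : G → ℂ) u = (r + ε : ℤ) := by
  rw [h.off u (h.ssc.not_inK_two h.two_dvd h.u2) X hX, h.val, Int.cast_add]

theorem four (hB : SSC B) (he : B.relIndex 𝐍(B) = 4) (hn : 5 < Nat.card B)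
    (hc : (Nat.card A).Coprime (Nat.card B)) : 9 ≤ Nat.card B ∧ Nat.card B % 4 = 1 ∧
      (((∀ g, InK B g → (χ : G → ℂ) g = (-ε : ℤ)) ∧ Nat.card B ∣ y) ∨
        (Nat.card A = 5 ∧ Nat.card B ∣ x ∧ Nat.card B * r ≤ x)) := by
  classical
  obtain ⟨δ, c, a, Y', Z, hX⟩ := hB.exists_ex he hn
  have c1 := hX.card
  have c2 := hX.two_le
  have he2 : 2 ∣ B.relIndex 𝐍(B) := he ▸ by norm_num
  have nk : ∀ b ∈ B, b ≠ 1 → ¬ InK A b := fun b hb b1 => not_inK_of_inK hc (.of_mem hb b1)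
  have key : ∀ X ∈ Y, χ ∉ Y' ∧ X ∉ Y' := fun X hY => by
    have n1 := ne_of_mem_of_not_mem hY h.cY
    have n2 := ne_of_mem_of_not_mem hY h.tr
    have := fun i => hX.not_mem (i := i) (f := fun j => (if j = X then 1 else 0) - (if j = χ then 1 else 0) -
      if j = triv G then (ε : ℂ) else 0) fun b hb b1 => by
        simp [sub_mul, h.off b (nk b hb b1) X hY, triv_apply]
    refine ⟨this χ fun j j1 j2 => ?_, this X fun j j1 j2 => ?_⟩
    · by_cases j3 : j = X <;> simp [j1, j2, j3, n1, n1.symm, h.ne1, n2]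
      norm_num
    · by_cases j3 : j = χ <;> simp [j1, j2, j3, n1, n1.symm, h.ne1, n2]
      norm_num
  obtain ⟨X, hY⟩ := h.exists_Y
  have z1 : χ ∈ Z := (hX.mem χ).2 ⟨(key X hY).1, h.ne1⟩
  have z2 : ∀ X ∈ Y, X ∈ Z := fun X hY => (hX.mem X).2 ⟨(key X hY).2, ne_of_mem_of_not_mem hY h.tr⟩
  obtain ⟨b, hb, b1⟩ := B.bot_or_exists_ne_one.resolve_left hB.ne
  have aY : ∀ X ∈ Y, a X = a χ + ε := fun X hY => by
    have := h.off b (nk b hb b1) X hY
    rw [hX.const _ z1 b hb b1, hX.const _ (z2 X hY) b hb b1] at this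
    exact_mod_cast this
  have sub : insert χ Y ⊆ Z := insert_subset z1 z2
  have sm : ∑ i ∈ Z \ insert χ Y, a i ^ 2 + (a χ ^ 2 + Y.card * (a χ + ε) ^ 2) = ∑ i ∈ Z, a i ^ 2 := by
    rw [← sum_sdiff sub, sum_insert h.cY, sum_congr (s₁ := Y) rfl fun X hY => by rw [aY X hY], sum_const,
      nsmul_eq_mul]
  have s0 : 0 ≤ ∑ i ∈ Z \ insert χ Y, a i ^ 2 := sum_nonneg fun _ _ => sq_nonneg _
  obtain ⟨o1, o2⟩ := hX.one_le
  have nr := hX.norm
  have t2 : (2 : ℤ) ≤ Y.card := by exact_mod_cast h.two_le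
  have hε := h.sign
  have cA := h.card
  refine ⟨by omega, by omega, ?_⟩
  by_cases gd : a χ = -ε
  · refine .inl ⟨fun g hg => hg.val (irr_cls χ) fun b hb b1 => gd ▸ hX.const χ z1 b hb b1, ?_⟩
    have := dvd_sub (H6.irr_isGen X.2) (c := 0) (d := y) (A := B) (fun b hb b1 => by
      rw [hX.const X (z2 X hY) b hb b1, aY X hY, gd, neg_add_cancel]) (h.oneY hY)
    rw [sub_zero] at this
    exact_mod_cast this
  have p1 : 0 < (a χ + ε) ^ 2 := by have : a χ + ε ≠ 0 := by omega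
                                    positivity
  have le3 : a χ ^ 2 + Y.card * (a χ + ε) ^ 2 ≤ 3 := by push_cast at nr; omega
  have a0 : a χ = 0 := by
    have : a χ ^ 2 ≤ 1 := by nlinarith
    have : -1 ≤ a χ ∧ a χ ≤ 1 := ⟨by nlinarith, by nlinarith⟩
    by_contra hc
    have : a χ = ε := by omega
    rw [this] at le3
    rcases hε with rfl | rfl <;> omega
  have e1 : ε ^ 2 = 1 := by rcases hε with rfl | rfl <;> rfl
  rw [a0, zero_add, e1] at sm le3
  have z0 : ∀ b ∈ B, b ≠ 1 → (χ : G → ℂ) b = (0 : ℤ) := fun b hb b1 => a0 ▸ hX.const χ z1 b hb b1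
  have dx := dvd_sub (H6.irr_isGen χ.2) (d := x) z0 h.one
  rw [sub_zero] at dx
  obtain ⟨t, tn, ht⟩ := exists_invol he2
  refine .inr ⟨?_, by exact_mod_cast dx, hB.sign_bound he2 ht tn (irr_chr χ) h.one
    ((H6.classFun_of_isConj (irr_cls χ) (h.cls t ht)).trans h.val) (by simpa using z0)⟩
  by_contra n5
  have t3 : Y.card = 3 := by omega
  obtain rfl := o2 (by push_cast at nr; omega)
  have sf : ∀ (f : IrrCharacter G → ℂ) (v : ℂ), (∀ X ∈ Y, f X = v) → ∑ i ∈ Z, a i * f i = 3 * ε * v :=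
    fun f v hf => by
      rw [← sum_sdiff sub, eq_zero_of_sum_sq (by push_cast at nr; omega), sum_insert h.cY, a0,
        sum_congr (s₁ := Y) rfl fun X hY => by rw [aY X hY, a0, hf X hY], sum_const, t3]
      simp [mul_assoc]
  obtain ⟨Φ, hΦ⟩ := card_pos.1 (lt_of_lt_of_le two_pos c2)
  have r1 := (hX.rel0 not_inK_one).2 Φ hΦ
  have r2 := (hX.rel0 (hB.not_inK_two he2 h.u2)).2 Φ hΦ
  have r3 := hX.relK (fun b hb b1 => h.coef hB he2 (.of_mem hb b1)) hΦ
  rw [sf _ y fun X hY => h.oneY hY, dg_cast] at r1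
  rw [sf _ _ fun X hY => h.valY hY] at r2
  rw [sf _ (((r + ε : ℤ) : ℂ) ^ 2 / y) fun X hY => by rw [h.valY hY, h.dy X hY]] at r3
  have y0 : (y : ℂ) ≠ 0 := Nat.cast_ne_zero.2 (h.dy X hY ▸ dg_pos X).ne'
  have d0 : (dg Φ : ℂ) ≠ 0 := Nat.cast_ne_zero.2 (dg_pos Φ).ne'
  have ee : (ε : ℂ) ^ 2 = 1 := by exact_mod_cast e1
  have dd : (δ : ℂ) ^ 2 = 1 := by rcases hX.sign with rfl | rfl <;> simp
  have yx : (y : ℂ) = x + ε := by exact_mod_cast h.yx
  have q := h.eq
  rw [← cA, t3] at q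
  have q' : (Nat.card G : ℂ) * (x - r) ^ 2 = 7 * (Nat.card 𝐂[u] : ℂ) ^ 2 * (x * y) := by exact_mod_cast q
  have v1 : (dg Φ : ℂ) = δ * (1 + 3 * ε * y) := by
    push_cast at r1; linear_combination (-δ) * r1 - dg Φ * dd
  have v2 : (Φ : G → ℂ) u = δ * (1 + 3 * ε * (r + ε)) := by
    push_cast at r2; linear_combination (-δ) * r2 - (Φ : G → ℂ) u * dd
  have w : (Nat.card B : ℂ) * (3 * y + ε) = 21 * x := by
    have C0 : (Nat.card 𝐂[u] : ℂ) ≠ 0 := H6.card_ne_zero
    rw [v2, v1] at r3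
    have D0 := right_ne_zero_of_mul (v1 ▸ d0)
    have r4 : 3 * ε * (y - (r + ε)) ^ 2 * (Nat.card G : ℂ) =
        Nat.card B * (Nat.card 𝐂[u] : ℂ) ^ 2 * (y * (1 + 3 * ε * y)) := by
      have δ0 := left_ne_zero_of_mul (v1 ▸ d0)
      rw [← r3]
      generalize hD : (1 : ℂ) + 3 * ε * y = D at D0 ⊢
      push_cast
      field_simp
      rw [← hD]
      linear_combination ((1 + 3 * ε * (r + ε)) ^ 2 * y * (Nat.card G : ℂ)) * dd
    rw [show (y : ℂ) - (r + ε) = x - r by rw [yx]; ring] at r4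
    apply mul_left_cancel₀ (mul_ne_zero (pow_ne_zero 2 C0) y0)
    linear_combination (-ε) * r4 + 3 * q' + (3 * (x - r) ^ 2 * (Nat.card G : ℂ) -
      3 * Nat.card B * (Nat.card 𝐂[u] : ℂ) ^ 2 * y ^ 2) * ee
  have w' : (Nat.card B : ℤ) * (3 * y + ε) = 21 * x := by exact_mod_cast w
  have := Int.le_of_dvd (by exact_mod_cast h.x_pos) dx
  have := h.yx
  have : (9 : ℤ) ≤ Nat.card B := by omega
  rcases hε with rfl | rfl <;> nlinarith

end T3

end H84.SC
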