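import Mathlib
import Cfsg.Agent.Base
import Cfsg.Agent.Lib.SSC.Four
import Cfsg.Agent.Lib.SSC.Arith

/-! Self-centralization systems of type `(2, 4, 4)`: the order of the group. -/

set_option autoImplicit false
set_option linter.unusedSectionVars false
set_option linter.style.haveILetI false

open Cfsg Subgroup Finset H17.Ord
open scoped ComplexConjugate

namespace H84.SC

variable {G : Type*} [Group G] [Finite G] {A B D : Subgroup G}

local notation "𝐍(" A ")" => Subgroup.normalizer (A : Set G)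
local notation "𝐂[" a "]" => Subgroup.centralizer ({a} : Set G)

open Classical in
theorem SSC.sum_K [Fintype G] (h : SSC A) {e : ℕ} (he : A.relIndex 𝐍(A) = e) {f : G → ℤ} {v : ℤ}
    (hf : ∀ g, InK A g → f g = v) : e * ∑ g with InK A g, f g = (Nat.card G - A.index) * v := by
  have h1 := h.card_K
  rw [← H1.card_mul_relIndex_of_le (le_normalizer (H := A)), he, ← A.card_mul_index, mul_assoc, ← mul_add,
    Nat.mul_right_inj Nat.card_pos.ne', A.card_mul_index] at h1
  rw [sum_congr rfl fun g hg => hf g (mem_filter.1 hg).2, sum_const, nsmul_eq_mul, ← h1]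
  push_cast
  ring

theorem coef_one (u : G) (hu : orderOf u = 2) : H31.classCoeff u u 1 = 𝐂[u].index := by
  have tt : u * u = 1 := by rw [← sq, ← hu, pow_orderOf_eq_one]
  rw [← H6.card_isConj_eq_index]
  exact Nat.card_congr ⟨fun p => ⟨p.1.1, p.2.1⟩, fun v => ⟨(v, v), v.2, v.2, H33.mul_self_of_isConj tt v.2⟩,
    fun p => Subtype.ext (Prod.ext rfl (mul_left_cancel
      ((H33.mul_self_of_isConj tt p.2.1).trans p.2.2.2.symm))), fun v => rfl⟩

theorem coef_le {u : G} (hu : orderOf u = 2) (g : G) : H31.classCoeff u u g ≤ Nat.card 𝐂[g] := by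
  have tt : u * u = 1 := by rw [← sq, ← hu, pow_orderOf_eq_one]
  have key : ∀ p : {p : G × G // IsConj u p.1 ∧ IsConj u p.2 ∧ p.1 * p.2 = g},
      p.1.1 * g * p.1.1⁻¹ = g⁻¹ := fun ⟨⟨v, w⟩, hv, hw, e⟩ => by
    have k1 := H33.mul_self_of_isConj tt hv
    have k2 := H33.mul_self_of_isConj tt hw
    simp only at *
    rw [← e, mul_inv_rev, inv_eq_of_mul_eq_one_right k1, inv_eq_of_mul_eq_one_right k2,
      ← mul_assoc, k1, one_mul]
  rcases isEmpty_or_nonempty {p : G × G // IsConj u p.1 ∧ IsConj u p.2 ∧ p.1 * p.2 = g} with e | ⟨⟨q⟩⟩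
  · exact Nat.card_of_isEmpty.trans_le (Nat.zero_le _)
  refine Nat.card_le_card_of_injective (fun p => ⟨q.1.1⁻¹ * p.1.1, mem_centralizer_singleton_iff.2 ?_⟩)
    fun p p' e => ?_
  · calc _ = q.1.1⁻¹ * (p.1.1 * g * p.1.1⁻¹) * p.1.1 := by group
      _ = _ := by rw [key p, ← key q]; group
  · have := mul_left_cancel (congrArg Subtype.val e)
    exact Subtype.ext (Prod.ext this (mul_left_cancel ((p.2.2.2.trans p'.2.2.2.symm).trans (by rw [this]))))

theorem arK {n a b m x y k r s C N ε : ℤ} (hε : ε = 1 ∨ ε = -1) (b1 : 9 ≤ a) (b2 : a % 4 = 1) (d1 : 9 ≤ b)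
    (d2 : b % 4 = 1) (ne : a ≠ b) (n5 : 5 ≤ n) (no : n % 2 = 1) (hm : y = a * b * m) (m0 : 0 < m)
    (yx : y = x + ε) (dA : n ∣ x - ε) (iA : n ∣ x * y * k - 2) (dB : a ∣ ε * n * m * k * b + 4)
    (dD : b ∣ ε * n * m * k * a + 4) (bd : m * x * k ≤ 3 * n * (a * b)) (s0 : 0 < s) (sk : s ^ 2 = k)
    (hs : C = (x - r) * s) (eC : C * N = n * x * y * k) (kA : IsCoprime n C) (kB : IsCoprime a C)
    (kD : IsCoprime b C) (cBD : IsCoprime a b) (col : (n - 1) * (r + ε) ^ 2 < 2 * C)
    (ieq : (x - r) ^ 2 * (2 * n + (a + b) - 4) ≤ 4 * n * (x * y)) : k = 1 := by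
  by_contra k1
  have ee : ε * ε = 1 := by rcases hε with rfl | rfl <;> rfl
  obtain ⟨j, hj⟩ := dA
  obtain ⟨l, hl⟩ : n ∣ k - 1 := by
    refine IsCoprime.dvd_of_dvd_mul_left (y := 2) ⟨1, -(n / 2), by omega⟩ ?_
    convert _root_.dvd_sub iA (Dvd.intro (j * k * (y + ε)) rfl) using 1
    linear_combination (-2 * k) * ee - (k * (y + ε)) * hj - k * ε * yx
  have k0 : 0 < k := sk ▸ by positivity
  have l0 : 0 < l := (pos_iff_pos_of_mul_pos (a := n) (by omega)).1 (by omega)
  have P0 : 117 ≤ a * b := by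
    rcases lt_or_gt_of_ne ne with c | c
    · exact mul_le_mul b1 (show 13 ≤ b by omega) (by norm_num) (by omega)
    · exact mul_le_mul (show 13 ≤ a by omega) d1 (by norm_num) (by omega)
  have xe : x = a * b * m - ε := by linarith
  have ke : k = l * n + 1 := by linarith
  have ε1 : ε ≤ 1 := by omega
  obtain rfl : m = 1 := by
    by_contra m1
    have m2 : 2 ≤ m := by omega
    have : a * b * 2 - 1 ≤ x := by have := mul_le_mul_of_nonneg_left m2 (show 0 ≤ a * b by omega); omega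
    have : n + 1 ≤ k := by have := mul_le_mul_of_nonneg_right l0 (show 0 ≤ n by omega); omega
    have x0 : 0 < x := by omega
    have : 2 * (a * b * 2 - 1) * (n + 1) ≤ m * x * k := by gcongr; omega
    generalize a * b = P at *
    nlinarith
  simp only [mul_one, one_mul] at *
  refine arB2 (j := j) (l := l) hε b1 d1 b2 d2 ne no n5 (by linarith) ?_ ?_
  · rw [← ke]
    refine cBD.mul_dvd ?_ ?_
    · convert dvd_add dB (Dvd.intro (ε * n * k) rfl) using 1; ring
    · convert dvd_add dD (Dvd.intro (ε * n * k) rfl) using 1; ring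
  by_cases l2 : l = 1 ∨ l = 2
  · refine .inl ⟨l2, ?_⟩
    obtain rfl : r = 0 := by
      refine arB1 hε s0 ?_ (by rw [mul_comm s, ← hs]; exact col) (by omega) ?_ n5 (sk.trans ke) l2
      · have e2 : (x - r) * N = n * (a * b) * (s * x) := by
          apply mul_left_cancel₀ s0.ne'
          rw [hs, ← sk, hm] at eC
          linear_combination eC
        obtain ⟨c, hc⟩ := (((kA.mul_left (kB.mul_left kD)).of_isCoprime_of_dvd_right
          ⟨s, hs⟩).symm.dvd_of_dvd_mul_left ⟨N, e2.symm⟩)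
        exact ⟨c - s, by linear_combination hc⟩
      · have := Int.le_of_dvd (by omega) ⟨j, hj⟩
        omega
    rw [← xe, ← hm]
    refine le_of_mul_le_mul_left ?_ (show 0 < x by omega)
    linarith
  · rw [xe, ke] at bd
    generalize a * b = P at bd P0 ⊢
    obtain rfl : l = 3 := by
      by_contra l3
      have : 4 ≤ l := by omega
      have : (P - 1) * (4 * n + 1) ≤ (P - ε) * (l * n + 1) := by gcongr; omega
      nlinarith
    rcases hε with rfl | rfl
    · exact .inr ⟨rfl, rfl, by linarith⟩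
    · exfalso; linarith

/-- the elements outside the three exceptional sets -/
def InR (A B D : Subgroup G) (g : G) : Prop := g ≠ 1 ∧ ¬ InK A g ∧ ¬ InK B g ∧ ¬ InK D g

/-- three subgroups -/
structure T4 (A B D : Subgroup G) (ε : ℤ) (χ : IrrCharacter G) (Y : Finset (IrrCharacter G)) (x y : ℕ)
    (u : G) (r : ℤ) : Prop extends T3 A ε χ Y x y u r where
  sB : SSC B
  sD : SSC D
  iB : B.relIndex 𝐍(B) = 4
  iD : D.relIndex 𝐍(D) = 4
  nA : 5 ≤ Nat.card A
  nB : 5 < Nat.card B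
  nD : 5 < Nat.card D
  cAB : (Nat.card A).Coprime (Nat.card B)
  cAD : (Nat.card A).Coprime (Nat.card D)
  cBD : (Nat.card B).Coprime (Nat.card D)

variable {ε r : ℤ} {χ : IrrCharacter G} {Y : Finset (IrrCharacter G)} {x y : ℕ} {u : G}

namespace T4

variable (h : T4 A B D ε χ Y x y u r)
include h

theorem dB : 2 ∣ B.relIndex 𝐍(B) := h.iB ▸ by norm_num

theorem dD : 2 ∣ D.relIndex 𝐍(D) := h.iD ▸ by norm_num

open Classical in
theorem split [Fintype G] {f : G → ℤ} {a b d : ℤ} (ha : ∀ g, InK A g → f g = a)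
    (hb : ∀ g, InK B g → f g = b) (hd : ∀ g, InK D g → f g = d) :
    4 * ∑ g, f g = 4 * f 1 + 2 * ((Nat.card G - A.index) * a) + (Nat.card G - B.index) * b +
      (Nat.card G - D.index) * d + 4 * ∑ g with InR A B D g, f g := by
  rw [← h.ssc.sum_K h.idx ha, ← h.sB.sum_K h.iB hb, ← h.sD.sum_K h.iD hd, sum_congr rfl
    (g := fun g => (if g = 1 then f g else 0) + (if InK A g then f g else 0) + (if InK B g then f g else 0) +
      (if InK D g then f g else 0) + if InR A B D g then f g else 0) fun g _ => ?_]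
  · simp only [sum_add_distrib]
    rw [sum_ite_eq', if_pos (mem_univ _)]
    simp only [← sum_filter]
    push_cast
    ring
  · by_cases g1 : g = 1
    · simp [g1, not_inK_one, InR]
    by_cases c3 : InK D g
    · simp [g1, c3, InR, not_inK_of_inK h.cAD c3, not_inK_of_inK h.cBD c3]
    by_cases c2 : InK B g
    · simp [g1, c3, c2, InR, not_inK_of_inK h.cAB c2]
    by_cases c1 : InK A g <;> simp [g1, c1, c2, c3, InR]

theorem ineq : (x - r) ^ 2 * (2 * Nat.card A + (Nat.card B + Nat.card D) - 4) ≤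
    4 * (Nat.card A : ℤ) * (x * y) := by
  classical
  haveI := Fintype.ofFinite G
  have h1 := h.split (f := fun g => H31.classCoeff u u g) (fun g hg => by rw [h.coef h.ssc h.two_dvd hg])
    (fun g hg => by rw [h.coef h.sB h.dB hg]) fun g hg => by rw [h.coef h.sD h.dD hg]
  have h2 := H31.sum_classCoeff_mul_irr (triv G).2 u u
  simp only [triv_apply, mul_one, div_one] at h2
  have h3 : ∑ g, (H31.classCoeff u u g : ℤ) = 𝐂[u].index * 𝐂[u].index := by exact_mod_cast h2
  have h4 : 0 ≤ ∑ g with InR A B D g, (H31.classCoeff u u g : ℤ) := by positivity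
  have e : ∀ H : Subgroup G, (Nat.card H : ℤ) * H.index = Nat.card G := fun H => by
    exact_mod_cast H.card_mul_index
  have g0 : (0 : ℤ) < Nat.card G := by exact_mod_cast Nat.card_pos
  have h5 : Nat.card G * (2 * Nat.card A + (Nat.card B + Nat.card D) - 4 : ℤ) ≤
      4 * (𝐂[u].index * 𝐂[u].index) := by
    have : (0 : ℤ) ≤ H31.classCoeff u u 1 := by positivity
    linarith [e A, e B, e D]
  have h6 : (𝐂[u].index * 𝐂[u].index : ℤ) * (x - r) ^ 2 = Nat.card G * (Nat.card A * (x * y)) := by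
    apply mul_left_cancel₀ g0.ne'
    linear_combination (𝐂[u].index * 𝐂[u].index : ℤ) * h.eq + (Nat.card A * (x * y) *
      (Nat.card 𝐂[u] * 𝐂[u].index + Nat.card G) : ℤ) * e 𝐂[u]
  refine le_of_mul_le_mul_left ?_ g0
  nlinarith [mul_le_mul_of_nonneg_right h5 (sq_nonneg ((x : ℤ) - r))]

theorem nums : 9 ≤ Nat.card B ∧ Nat.card B % 4 = 1 ∧ 9 ≤ Nat.card D ∧ Nat.card D % 4 = 1 ∧
    Nat.card B ≠ Nat.card D := by
  obtain ⟨b1, b2, -⟩ := h.four h.sB h.iB h.nB h.cAB
  obtain ⟨d1, d2, -⟩ := h.four h.sD h.iD h.nD h.cAD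
  refine ⟨b1, b2, d1, d2, fun e => ?_⟩
  have := h.cBD
  rw [e, Nat.coprime_self] at this
  omega

theorem good : (∀ g, InK B g → (χ : G → ℂ) g = (-ε : ℤ)) ∧ (∀ g, InK D g → (χ : G → ℂ) g = (-ε : ℤ)) ∧
    Nat.card B * Nat.card D ∣ y := by
  obtain ⟨b1, b2, d1, d2, ne⟩ := h.nums
  have key : ∀ a b : ℕ, 9 ≤ a → 22 ≤ a + b → (a : ℤ) + b = Nat.card B + Nat.card D →
      ¬ (Nat.card A = 5 ∧ a ∣ x ∧ a * r ≤ x) := fun a b h1 h2 h3 ⟨h4, h5, h6⟩ => by
    have i := h.ineq
    have d := h.dvdA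
    rw [h4] at d i
    rw [← h3, h.yx] at i
    exact arC h.sign (by exact_mod_cast h1) (by exact_mod_cast h2) (by exact_mod_cast h5)
      (by exact_mod_cast h.x_pos) d h6 i
  obtain ⟨e1, e2⟩ := (h.four h.sB h.iB h.nB h.cAB).2.2.resolve_right (key _ (Nat.card D) b1 (by omega) rfl)
  obtain ⟨e3, e4⟩ := (h.four h.sD h.iD h.nD h.cAD).2.2.resolve_right
    (key _ (Nat.card B) d1 (by omega) (add_comm _ _))
  exact ⟨e1, e3, h.cBD.mul_dvd_of_dvd_of_dvd e2 e4⟩

theorem cops : (Nat.card A).Coprime x ∧ (Nat.card A).Coprime y ∧ x.Coprime y := by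
  obtain ⟨j, hj⟩ := h.dvdA
  have ee : ε * ε = 1 := by rcases h.sign with rfl | rfl <;> rfl
  have cA : (Y.card : ℤ) * 2 + 1 = Nat.card A := by exact_mod_cast h.card
  simp only [← Nat.isCoprime_iff_coprime]
  refine ⟨⟨-ε * j, ε, by linear_combination ee + ε * hj⟩, ⟨1 + Y.card * ε * j, -Y.card * ε, ?_⟩,
    ⟨-ε, ε, by linear_combination ee + ε * h.yx⟩⟩
  linear_combination -cA - 2 * Y.card * ee - Y.card * ε * (hj + h.yx)

theorem not_inK_u : ¬ InK A u ∧ ¬ InK B u ∧ ¬ InK D u :=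
  ⟨h.ssc.not_inK_two h.two_dvd h.u2, h.sB.not_inK_two h.dB h.u2, h.sD.not_inK_two h.dD h.u2⟩

theorem u1 : u ≠ 1 := fun e => by simpa [e] using h.u2

theorem col : ((Nat.card A : ℤ) - 1) * (r + ε) ^ 2 < 2 * Nat.card 𝐂[u] := by
  classical
  choose z hz using int_of_conj_pow (g := u) (n := 1) (a := 1) (by simp) fun m hm hc => by
    rw [h.u2] at hm hc ⊢
    interval_cases m <;> simp at hc ⊢
  have h1 := sum_le_univ_sum_of_nonneg (s := insert (triv G) Y) fun i => sq_nonneg (z i)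
  have h2 : z (triv G) = 1 := by exact_mod_cast (hz _).symm.trans (triv_apply u)
  have cA : (Y.card : ℤ) * 2 + 1 = Nat.card A := by exact_mod_cast h.card
  rw [col_sq hz, sum_insert h.tr, h2, sum_congr rfl (g := fun _ => (r + ε) ^ 2) fun X hX => by
    rw [show z X = r + ε by exact_mod_cast (hz X).symm.trans (h.valY hX)], sum_const, nsmul_eq_mul] at h1
  rw [← cA]
  linarith

theorem order (hG : Nat.card G ≤ 3 * Nat.card A ^ 2 * Nat.card B ^ 2 * Nat.card D ^ 2) :
    ∃ m : ℕ, y = m * Nat.card B * Nat.card D ∧ Nat.card G = Nat.card A * x * y ∧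
      (Nat.card 𝐂[u] : ℤ) = x - r ∧ m * x ≤ 3 * Nat.card A * (Nat.card B * Nat.card D) ∧
      (Nat.card B : ℤ) ∣ ε * Nat.card A * m * Nat.card D + 4 ∧
      (Nat.card D : ℤ) ∣ ε * Nat.card A * m * Nat.card B + 4 := by
  obtain ⟨b1, b2, d1, d2, ne⟩ := h.nums
  obtain ⟨m, hm⟩ := h.good.2.2
  obtain ⟨c1, c2, c3⟩ := h.cops
  obtain ⟨X, hX⟩ := h.exists_Y
  obtain ⟨k, hk⟩ := (c2.mul_left c3).mul_dvd_of_dvd_of_dvd (c1.mul_dvd_of_dvd_of_dvd
    A.card_subgroup_dvd_card (h.dx ▸ dg_dvd χ)) (h.dy X hX ▸ dg_dvd X)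
  have iA := h.ssc.index_mod
  have iB := h.sB.index_mod
  have iD := h.sD.index_mod
  have eA : A.index = x * y * k := Nat.eq_of_mul_eq_mul_left Nat.card_pos
    (by rw [A.card_mul_index, hk]; ring)
  have eB : B.index = Nat.card A * x * (Nat.card D * m) * k := Nat.eq_of_mul_eq_mul_left Nat.card_pos
    (by rw [B.card_mul_index, hk, hm]; ring)
  have eD : D.index = Nat.card A * x * (Nat.card B * m) * k := Nat.eq_of_mul_eq_mul_left Nat.card_pos
    (by rw [D.card_mul_index, hk, hm]; ring)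
  rw [eA, h.idx] at iA
  rw [eB, h.iB] at iB
  rw [eD, h.iD] at iD
  have q := h.eq
  have ieq := h.ineq
  have col := h.col
  have kA := h.ssc.cop_cent h.not_inK_u.1 h.u1
  have kB := h.sB.cop_cent h.not_inK_u.2.1 h.u1
  have kD := h.sD.cop_cent h.not_inK_u.2.2 h.u1
  have eC := 𝐂[u].card_mul_index
  have C0 : 0 < Nat.card 𝐂[u] := Nat.card_pos
  have cA := h.card
  have dA := h.dvdA
  have nA := h.nA
  have y0 : 0 < y := h.dy X hX ▸ dg_pos X
  rw [← Nat.isCoprime_iff_coprime] at kA kB kD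
  have cBD := Nat.isCoprime_iff_coprime.2 h.cBD
  rw [hk] at q hG eC ⊢
  generalize Nat.card A = n, Nat.card B = a, Nat.card D = b, Nat.card 𝐂[u] = C, 𝐂[u].index = N at *
  have x0 := h.x_pos
  have lt := h.lt
  have yx := h.yx
  have hε := h.sign
  have ee : ε * ε = 1 := by rcases hε with rfl | rfl <;> rfl
  have q' : (C : ℤ) ^ 2 = (x - r) ^ 2 * k := by
    apply mul_left_cancel₀ (a := (n * x * y : ℤ)) (by positivity)
    push_cast at q
    linear_combination -q
  obtain ⟨s, hs⟩ := (Int.pow_dvd_pow_iff two_ne_zero).1 ⟨_, q'⟩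
  have sk : s ^ 2 = k := by
    apply mul_left_cancel₀ (pow_ne_zero 2 (show (x : ℤ) - r ≠ 0 by omega))
    rw [← q', hs]; ring
  have s0 : 0 < s := (pos_iff_pos_of_mul_pos (a := (x : ℤ) - r) (by omega)).1 (by omega)
  have hm' : (y : ℤ) = a * b * m := by exact_mod_cast hm
  have bd : m * x * k ≤ 3 * n * (a * b) := Nat.le_of_mul_le_mul_left (c := n * (a * b))
    (by rw [hm] at hG; convert hG using 1 <;> ring) (Nat.mul_pos (by omega) (Nat.mul_pos (by omega) (by omega)))
  have dB : (a : ℤ) ∣ ε * n * m * k * b + 4 := by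
    obtain ⟨c, hc⟩ := iB
    push_cast at hc
    exact ⟨b * m * n * b * m * k - c, by linear_combination (n * b * m * k) * (hm' - yx) - hc⟩
  have dD : (b : ℤ) ∣ ε * n * m * k * a + 4 := by
    obtain ⟨c, hc⟩ := iD
    push_cast at hc
    exact ⟨a * m * n * a * m * k - c, by linear_combination (n * a * m * k) * (hm' - yx) - hc⟩
  obtain rfl : k = 1 := by
    have m0 : 0 < m := Nat.pos_of_ne_zero fun e => by simp [e] at hm; omega
    exact_mod_cast arK (N := N) hε (by exact_mod_cast b1) (by exact_mod_cast b2) (by exact_mod_cast d1)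
      (by exact_mod_cast d2) (by exact_mod_cast ne) (by exact_mod_cast nA) (by omega) hm' (by exact_mod_cast m0)
      yx dA (by exact_mod_cast iA) dB dD (by exact_mod_cast bd) s0 sk hs (by exact_mod_cast eC) kA kB kD cBD
      col ieq
  obtain rfl : s = 1 := (pow_eq_one_iff_of_nonneg s0.le two_ne_zero).1 sk
  exact ⟨m, by rw [hm]; ring, by ring, by omega, by omega, by simpa using dB, by simpa using dD⟩

end T4

end H84.SC
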