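import Mathlib
import Cfsg.Agent.Base
import Cfsg.Agent.Lib.SSC.Sys

/-! Self-centralization systems of type `(2, 4, 4)`: the sign. -/

set_option autoImplicit false
set_option linter.unusedSectionVars false
set_option linter.style.haveILetI false

open Cfsg Subgroup Finset H17.Ord
open scoped ComplexConjugate

namespace H84.SC

variable {G : Type*} [Group G] [Finite G] {A B D : Subgroup G}

local notation "𝐍(" A ")" => Subgroup.normalizer (A : Set G)
local notation "𝐂[" a "]" => Subgroup.centralizer ({a} : Set G)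

/-- the order of the group is known -/
structure T5 (A B D : Subgroup G) (ε : ℤ) (χ : IrrCharacter G) (Y : Finset (IrrCharacter G)) (x y : ℕ)
    (u : G) (r : ℤ) (m : ℕ) : Prop extends T4 A B D ε χ Y x y u r where
  hy : y = m * Nat.card B * Nat.card D
  hG : Nat.card G = Nat.card A * x * y
  hC : (Nat.card 𝐂[u] : ℤ) = x - r
  bd : m * x ≤ 3 * Nat.card A * (Nat.card B * Nat.card D)
  mB : (Nat.card B : ℤ) ∣ ε * Nat.card A * m * Nat.card D + 4
  mD : (Nat.card D : ℤ) ∣ ε * Nat.card A * m * Nat.card B + 4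

variable {ε r : ℤ} {χ : IrrCharacter G} {Y : Finset (IrrCharacter G)} {x y m : ℕ} {u : G}

theorem not_dvd_of_cop {p a b : ℕ} (hp : p.Prime) (h : a.Coprime b) (hb : p ∣ b) : ¬ p ∣ a := fun c =>
  hp.ne_one (Nat.eq_one_of_dvd_coprimes h c hb)

theorem InK.of_isConj {g k : G} (c : IsConj g k) (h : InK A k) : InK A g := by
  obtain ⟨l, rfl⟩ := isConj_iff.1 c
  obtain ⟨h1, s, hs⟩ := h
  exact ⟨by simpa using h1, s * l, by simpa [mul_assoc] using hs⟩

namespace T5

variable (h : T5 A B D ε χ Y x y u r m)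
include h

theorem vanx {p : ℕ} (hp : p.Prime) (d : p ∣ x) {g : G} (hg : p ∣ orderOf g) : (χ : G → ℂ) g = 0 :=
  van_of_mul (c := Nat.card A * y) hp (by rw [h.hG, h.dx]; ring)
    (not_dvd_of_cop hp (h.cops.1.mul_left h.cops.2.2.symm) d) hg

theorem vany {p : ℕ} (hp : p.Prime) (d : p ∣ y) {g : G} (hg : p ∣ orderOf g) {X : IrrCharacter G}
    (hX : X ∈ Y) : (X : G → ℂ) g = 0 :=
  van_of_mul (c := Nat.card A * x) hp (by rw [h.hG, h.dy X hX])
    (not_dvd_of_cop hp (h.cops.2.1.mul_left h.cops.2.2) d) hg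

theorem m_pos : 0 < m := by
  obtain ⟨X, hX⟩ := h.exists_Y
  exact Nat.pos_of_mul_pos_right (Nat.pos_of_mul_pos_right (h.hy ▸ h.dy X hX ▸ dg_pos X))

theorem even : 2 ∣ x := by
  obtain ⟨X, hX⟩ := h.exists_Y
  have h1 : 2 ∣ Nat.card A * x * y := h.hG ▸ h.u2 ▸ orderOf_dvd_natCard u
  rcases (Nat.prime_two.dvd_mul).1 h1 with c | c
  · exact (Nat.coprime_two_left.2 (h.ssc.odd h.two_dvd)).dvd_of_dvd_mul_left c
  have h2 := (h.valY hX).symm.trans (h.vany Nat.prime_two c h.u2.symm.dvd hX)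
  have h3 : r + ε = 0 := by exact_mod_cast h2
  have h4 : Nat.card 𝐂[u] = y := by have := h.hC; have := h.yx; omega
  have := h.sB.cop_cent h.not_inK_u.2.1 h.u1
  rw [h4, h.hy, mul_right_comm, Nat.coprime_mul_iff_right, Nat.coprime_self] at this
  exact absurd this.2 (by have := h.nB; omega)

theorem r0 : r = 0 := by exact_mod_cast h.val.symm.trans (h.vanx Nat.prime_two h.even h.u2.symm.dvd)

theorem cu : Nat.card 𝐂[u] = x := by have := h.hC; have := h.r0; omega

theorem iu : 𝐂[u].index = Nat.card A * y :=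
  Nat.eq_of_mul_eq_mul_left Nat.card_pos (by rw [card_mul_index, h.cu, h.hG]; ring)

theorem inR {g : G} (hg : InR A B D g) (h0 : (χ : G → ℂ) g ≠ 0) :
    (χ : G → ℂ) g = (-ε : ℤ) ∧ Nat.card 𝐂[g] ∣ m := by
  obtain ⟨g1, gA, gB, gD⟩ := hg
  obtain ⟨X, hX⟩ := h.exists_Y
  have c1 : x.Coprime (orderOf g) := Nat.coprime_of_dvd fun p hp d1 d2 => h0 (h.vanx hp d1 d2)
  have c2 := h.ssc.cop_cent gA g1
  have og : orderOf g ∣ Nat.card 𝐂[g] := orderOf_dvd_natCard _ (mem_centralizer_singleton_iff.2 rfl)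
  obtain ⟨p, hp, pg⟩ := Nat.exists_prime_and_dvd (orderOf_eq_one_iff.not.2 g1)
  have py : p ∣ y := pg.trans (((c2.coprime_dvd_right og).mul_left c1).symm.dvd_of_dvd_mul_left
    (h.hG ▸ orderOf_dvd_natCard g))
  have c3 : x.Coprime (Nat.card 𝐂[g]) := Nat.coprime_of_dvd fun q hq d1 d2 => by
    haveI := Fact.mk hq
    obtain ⟨c, hc⟩ := exists_prime_orderOf_dvd_card' q d2
    rw [← orderOf_coe] at hc
    have e := (show Commute g c from (mem_centralizer_singleton_iff.1 c.2).symm)
      |>.orderOf_mul_eq_mul_orderOf_of_coprime (hc ▸ (c1.coprime_dvd_left d1).symm)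
    have qd : q ∣ orderOf (g * c) := by rw [e, hc]; exact dvd_mul_left _ _
    have := h.off (g * c) (fun k => not_dvd_of_cop hq h.cops.1 d1 (qd.trans k.ord)) X hX
    rw [h.vanx hq d1 qd, h.vany hp py (e ▸ pg.mul_right _) hX] at this
    rcases h.sign with rfl | rfl <;> simp at this
  refine ⟨?_, ?_⟩
  · have := h.off g gA X hX
    rw [h.vany hp py pg hX] at this
    push_cast
    linear_combination -this
  · have := 𝐂[g].card_subgroup_dvd_card
    rw [h.hG, h.hy] at this
    exact (h.sB.cop_cent gB g1).symm.dvd_of_dvd_mul_right ((h.sD.cop_cent gD g1).symm.dvd_of_dvd_mul_right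
      ((c2.mul_left c3).symm.dvd_of_dvd_mul_left this))

theorem pos : ε = 1 := by
  classical
  haveI := Fintype.ofFinite G
  refine h.sign.resolve_right fun hε => ?_
  subst hε
  obtain ⟨gB, gD, -⟩ := h.good
  obtain ⟨b1, -, d1, -⟩ := h.nums
  let f : G → ℤ := fun g => if g = 1 then x else if InK A g then -1 else if (χ : G → ℂ) g = 0 then 0 else 1
  have fA : ∀ g, InK A g → f g = -1 := fun g hg => by simp [f, hg, hg.1]
  have fB : ∀ g, InK B g → f g = 1 := fun g hg => by simp [f, hg.1, not_inK_of_inK h.cAB hg, gB g hg]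
  have fD : ∀ g, InK D g → f g = 1 := fun g hg => by simp [f, hg.1, not_inK_of_inK h.cAD hg, gD g hg]
  have fR : ∀ g, InR A B D g → f g = if (χ : G → ℂ) g ≠ 0 then 1 else 0 := fun g hg => by
    simp [f, hg.1, hg.2.1]
  have hf : ∀ g, (χ : G → ℂ) g = f g := fun g => by
    by_cases g1 : g = 1
    · simp [f, g1, h.one]
    by_cases c1 : InK A g
    · rw [fA g c1, h.valK g c1]
    by_cases c2 : InK B g
    · rw [fB g c2, gB g c2, neg_neg]
    by_cases c3 : InK D g
    · rw [fD g c3, gD g c3, neg_neg]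
    by_cases c4 : (χ : G → ℂ) g = 0
    · simp [f, g1, c1, c4]
    · rw [fR g ⟨g1, c1, c2, c3⟩, if_pos c4, (h.inR ⟨g1, c1, c2, c3⟩ c4).1, neg_neg]
  have s1 : ∑ g, f g = 0 := by
    have := H6.sum_irr_mul_conj χ.2 (triv G).2 1
    rw [if_neg fun e => h.ne1 (Subtype.ext e)] at this
    simp only [triv_apply, map_one, mul_one, hf] at this
    exact_mod_cast this
  have s2 : ∑ g, H31.classCoeff u u g * f g = 0 := by
    have := H31.sum_classCoeff_mul_irr χ.2 u u
    rw [h.val, h.r0] at this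
    simp only [hf, Int.cast_zero, mul_zero, zero_div] at this
    exact_mod_cast this
  have e1 := h.split fA fB fD
  have e2 := h.split (f := fun g => H31.classCoeff u u g * f g)
    (fun g hg => by rw [h.coef h.ssc h.two_dvd hg, fA g hg]) (fun g hg => by rw [h.coef h.sB h.dB hg, fB g hg])
    fun g hg => by rw [h.coef h.sD h.dD hg, fD g hg]
  set Z := ({g | InR A B D g} : Finset G).filter fun g => (χ : G → ℂ) g ≠ 0 with hZ
  have mZ : ∀ g ∈ Z, Nat.card 𝐂[g] ≤ m := fun g hg => Nat.le_of_dvd h.m_pos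
    (h.inR (mem_filter.1 (mem_filter.1 hg).1).2 (mem_filter.1 hg).2).2
  rw [s1, sum_congr rfl fun g hg => fR g (mem_filter.1 hg).2, sum_boole, ← hZ] at e1
  rw [s2, sum_congr rfl fun g hg => by rw [fR g (mem_filter.1 hg).2, mul_boole], ← sum_filter, ← hZ,
    coef_one u h.u2, h.iu] at e2
  have eA : A.index = x * y := Nat.eq_of_mul_eq_mul_left Nat.card_pos
    (by rw [A.card_mul_index, h.hG]; ring)
  have eB : B.index = Nat.card A * x * (Nat.card D * m) := Nat.eq_of_mul_eq_mul_left Nat.card_pos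
    (by rw [B.card_mul_index, h.hG, h.hy]; ring)
  have eD : D.index = Nat.card A * x * (Nat.card B * m) := Nat.eq_of_mul_eq_mul_left Nat.card_pos
    (by rw [D.card_mul_index, h.hG, h.hy]; ring)
  have f1 : f 1 = x := if_pos rfl
  rw [f1, eA, eB, eD, h.hG] at e1 e2
  have hy : (y : ℤ) = m * Nat.card B * Nat.card D := by exact_mod_cast h.hy
  have yx := h.yx
  refine arA (n := Nat.card A) (a := Nat.card B) (b := Nat.card D) (m := m) (x := x) (z := #Z)
    (B := ∑ g ∈ Z, (H31.classCoeff u u g : ℤ)) (by exact_mod_cast b1) (by exact_mod_cast d1)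
    (by exact_mod_cast h.m_pos) (by linarith)
    (by exact_mod_cast h.nA) ?_ ?_ (by positivity) ?_ ?_ (by exact_mod_cast h.bd) ?_ ?_ ?_
  · push_cast at e1; rw [← hy]; linear_combination -e1
  · push_cast at e2; rw [hy] at e2; linear_combination -e2
  · rw [mul_comm, ← nsmul_eq_mul]
    exact sum_le_card_nsmul _ _ _ fun g hg => by exact_mod_cast (coef_le h.u2 g).trans (mZ g hg)
  · refine (Z.eq_empty_or_nonempty).imp (by simp +contextual) fun ⟨g, hg⟩ => ?_
    have : 𝐂[g].index ≤ #Z := by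
      rw [← H6.card_isConj_eq_index, Nat.card_eq_fintype_card, Fintype.card_subtype]
      refine card_le_card fun k hk => ?_
      simp only [hZ, mem_filter, mem_univ, true_and] at hg hk ⊢
      exact ⟨⟨fun e => hg.1.1 (isConj_one_left.1 (e ▸ hk)), mt (InK.of_isConj hk) hg.1.2.1,
        mt (InK.of_isConj hk) hg.1.2.2.1, mt (InK.of_isConj hk) hg.1.2.2.2⟩,
        H6.classFun_of_isConj (irr_cls χ) hk ▸ hg.2⟩
    rw [← hy]
    exact_mod_cast h.hG ▸ 𝐂[g].card_mul_index ▸ Nat.mul_le_mul (mZ g hg) this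
  · convert h.dvdA using 1
    linarith
  · exact h.mD.elim fun c hc => ⟨-c, by linear_combination -hc⟩
  · exact h.mB.elim fun c hc => ⟨-c, by linear_combination -hc⟩

end T5

end H84.SC
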