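import Mathlib
import Cfsg.Agent.Base
import Cfsg.Agent.Lib.SSC.One
import Cfsg.Agent.Lib.BSE14.Cor
import Cfsg.Agent.Lib.GL.Basic
import Cfsg.Agent.S0280

/-! Self-centralization systems of type `(2, 4, 4)`: identification with the Suzuki groups. -/

set_option autoImplicit false
set_option linter.unusedSectionVars false
set_option linter.style.haveILetI false

open Cfsg Subgroup Finset H17.Ord
open scoped ComplexConjugate

namespace H84.SC

theorem arD {c x T U : ℕ} (cop : T.Coprime (c * (x + 1))) (d : U + 1 ∣ T) (T0 : 0 < T) (U0 : 0 < U)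
    (h : c * (x + 1) * x = T * (U * (T + 1))) : x = T ∧ c = U := by
  obtain ⟨e, rfl⟩ := cop.dvd_of_dvd_mul_left ⟨_, h⟩
  have h1 : c * e * (T * e + 1) = U * (T + 1) := Nat.eq_of_mul_eq_mul_left T0 (by rw [← h]; ring)
  obtain ⟨w, rfl⟩ := d
  have h2 : U + 1 ∣ c * e + 1 := (Nat.dvd_add_right (Dvd.intro (c * e * w * e) rfl)).1
    ⟨U * w + 1, by linear_combination h1⟩
  have h3 := Nat.le_of_dvd (by omega) h2
  have e0 : e ≠ 0 := by rintro rfl; simp at h3; omega
  obtain rfl : e = 1 := by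
    by_contra e1
    have : U * ((U + 1) * w * 2 + 1) ≤ c * e * ((U + 1) * w * e + 1) := by gcongr <;> omega
    nlinarith
  simp only [mul_one] at h1
  exact ⟨mul_one _, Nat.eq_of_mul_eq_mul_right (Nat.succ_pos _) h1⟩

variable {G : Type*} [Group G] [Finite G] {A B D : Subgroup G}

local notation "𝐍(" A ")" => Subgroup.normalizer (A : Set G)
local notation "𝐂[" a "]" => Subgroup.centralizer ({a} : Set G)

theorem sum_const' {H : Type*} [Group H] [Fintype H] {f : H → ℂ} {v : ℂ} (h : ∀ c, c ≠ 1 → f c = v) :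
    ∑ c, f c = f 1 + (Nat.card H - 1) * v := by
  classical
  rw [← add_sum_erase _ _ (mem_univ 1), sum_congr rfl fun c hc => h c (ne_of_mem_erase hc), sum_const,
    nsmul_eq_mul, cast_card_erase_of_mem (mem_univ _), card_univ, Nat.card_eq_fintype_card]

variable {r : ℤ} {χ : IrrCharacter G} {Y : Finset (IrrCharacter G)} {x y m : ℕ} {u : G}

namespace T5

variable (h : T5 A B D 1 χ Y x y u r m)
include h

theorem yx' : y = x + 1 := by exact_mod_cast h.yx

theorem sumC [Fintype 𝐂[u]] (w : IrrCharacter G → ℂ) : ∑ c : 𝐂[u], ∑ ψ, w ψ * conj ((ψ : G → ℂ) c) =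
    x * (w (triv G) + (w χ + 2 * ∑ X ∈ Y, w X)) := by
  classical
  have x0 : (x : ℂ) ≠ 0 := Nat.cast_ne_zero.2 h.x_pos.ne'
  have e : ∀ ψ : IrrCharacter G, ∃ k : ℕ, ∑ c : 𝐂[u], conj ((ψ : G → ℂ) c) = x * k := fun ψ => by
    obtain ⟨k, hk⟩ := H6.char_inner_nat H6.isCharacter_one (H6.isCharacter_restrict 𝐂[u] (irr_chr ψ))
    rw [H6.classInner_def, inv_mul_eq_iff_eq_mul₀ H6.card_ne_zero, h.cu] at hk
    exact ⟨k, by simpa using hk⟩
  choose μ hμ using e
  have key : ∀ w : IrrCharacter G → ℂ, ∑ c : 𝐂[u], ∑ ψ, w ψ * conj ((ψ : G → ℂ) c) =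
      x * ∑ ψ, w ψ * μ ψ := fun w => by
    rw [sum_comm, mul_sum]
    exact sum_congr rfl fun ψ _ => by rw [← mul_sum, hμ, mul_left_comm]
  have v1 : ∀ c : 𝐂[u], c ≠ 1 → (χ : G → ℂ) c = 0 := fun c c1 => by
    obtain ⟨p, hp, d⟩ := Nat.exists_prime_and_dvd (orderOf_eq_one_iff.not.2 c1)
    exact h.vanx hp (d.trans (h.cu ▸ orderOf_dvd_natCard c)) (orderOf_coe c ▸ d)
  have m0 : μ (triv G) = 1 := by
    have := hμ (triv G)
    simp only [triv_apply, map_one, sum_const, card_univ, ← Nat.card_eq_fintype_card, h.cu,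
      nsmul_eq_mul] at this
    exact_mod_cast (mul_left_cancel₀ x0 this).symm
  have m1 : μ χ = 1 := by
    have := hμ χ
    rw [sum_const' (v := 0) fun c c1 => by rw [v1 c c1, map_zero], Subgroup.coe_one, h.one] at this
    exact_mod_cast mul_left_cancel₀ x0 (show (x : ℂ) * μ χ = x * 1 by rw [← this]; simp)
  have m2 : ∀ X ∈ Y, μ X = 2 := fun X hX => by
    have := hμ X
    rw [sum_const' (v := 1) fun c c1 => by
      rw [h.off c (not_inK_of_cop (h.cops.1.coprime_dvd_right (h.cu ▸ orderOf_dvd_natCard _ c.2))) X hX,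
        v1 c c1]; simp, Subgroup.coe_one, h.oneY hX, h.cu, h.yx'] at this
    exact_mod_cast mul_left_cancel₀ x0 (show (x : ℂ) * μ X = x * 2 by rw [← this]; simp; ring)
  have nm : triv G ∉ insert χ Y := by simp [h.ne1.symm, h.tr]
  have sp : ∀ {M : Type} [CommSemiring M] (w : IrrCharacter G → M), ∑ ψ, w ψ * μ ψ =
      w (triv G) + (w χ + 2 * ∑ X ∈ Y, w X) + ∑ ψ ∈ (insert (triv G) (insert χ Y))ᶜ, w ψ * μ ψ := fun w => by
    rw [← sum_add_sum_compl (insert (triv G) (insert χ Y)), sum_insert nm, sum_insert h.cY, m0, m1, mul_sum,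
      sum_congr (s₁ := Y) rfl fun X hX => by rw [m2 X hX, mul_comm]]
    simp
  have d := key fun ψ => dg ψ
  rw [sum_const' (v := 0) fun c c1 => by
    simpa only [dg_cast] using H6.column_orthogonality_not_isConj (g := 1) (h := (c : G))
      (by rw [isConj_one_right]; exact fun e => c1 (Subtype.ext e)), mul_zero, add_zero] at d
  have d1 := H6.column_orthogonality_isConj (IsConj.refl (1 : G))
  rw [centralizer_eq_top_iff_subset.2 (by simp), card_top, h.hG] at d1
  simp only [dg_cast, Subgroup.coe_one] at d d1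
  have d2 : ∑ ψ, dg ψ * μ ψ = Nat.card A * y := by
    apply Nat.eq_of_mul_eq_mul_left h.x_pos
    rw [d, mul_right_comm, mul_comm (_ * y) x] at d1
    exact_mod_cast d1
  have d3 := sp fun ψ => dg ψ
  simp only [Nat.cast_id] at d3
  rw [d2, dg_triv, h.dx, sum_congr rfl h.dy, sum_const, smul_eq_mul, ← h.card, h.yx'] at d3
  rw [key, sp, sum_eq_zero (s := _ᶜ) fun ψ hψ => ?_, add_zero]
  rw [(mul_eq_zero.1 (sum_eq_zero_iff.1 (show ∑ ψ ∈ _, dg ψ * μ ψ = 0 by linarith) ψ hψ)).resolve_left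
    (dg_pos ψ).ne', Nat.cast_zero, mul_zero]

theorem sq_of_isConj {v : G} (hv : IsConj u v) : v * v = 1 :=
  H33.mul_self_of_isConj (by rw [← sq, ← h.u2, pow_orderOf_eq_one]) hv

theorem ord_of_isConj {v : G} (hv : IsConj u v) : orderOf v = 2 := by
  obtain ⟨k, rfl⟩ := isConj_iff.1 hv
  exact ((MulAut.conj k).orderOf_eq u).trans h.u2

theorem isConj_of_sq {v : G} (h1 : v ≠ 1) (h2 : v * v = 1) : IsConj u v :=
  (h.cls v (H14.BSE.orderOf_two h1 h2)).symm

open Classical in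
theorem cardI [Fintype 𝐂[u]] : #{c : 𝐂[u] | IsConj u c} = Nat.card A := by
  have e := h.sumC fun ψ => (ψ : G → ℂ) u
  rw [sum_congr rfl (g := fun c : 𝐂[u] => if IsConj u c then (x : ℂ) else 0) fun c _ => by
    split_ifs with hc
    · rw [H6.column_orthogonality_isConj hc, h.cu]
    · exact H6.column_orthogonality_not_isConj hc, ← sum_filter, sum_const, nsmul_eq_mul, mul_comm,
    triv_apply, h.val, sum_congr rfl fun X hX => h.valY hX, h.r0, sum_const, nsmul_eq_mul] at e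
  have := mul_left_cancel₀ (Nat.cast_ne_zero.2 h.x_pos.ne') e
  rw [← h.card]
  exact_mod_cast this.trans (show _ = (Y.card * 2 + 1 : ℂ) by push_cast; ring)

theorem comm_u {a b : G} (ha : IsConj u a) (hb : IsConj u b) (ca : Commute a u) (cb : Commute b u) :
    Commute a b := by
  classical
  haveI := Fintype.ofFinite 𝐂[u]
  have y0 : (y : ℂ) ≠ 0 := by rw [h.yx']; exact_mod_cast x.succ_ne_zero
  have x0 : (x : ℂ) ≠ 0 := Nat.cast_ne_zero.2 h.x_pos.ne'
  have e := h.sumC fun ψ => (ψ : G → ℂ) u * (ψ : G → ℂ) u / (ψ : G → ℂ) 1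
  simp only [div_mul_eq_mul_div] at e
  rw [triv_apply, triv_apply, h.val, sum_congr (s₁ := Y) rfl fun X hX => by rw [h.valY hX, h.oneY hX], h.r0,
    sum_const, nsmul_eq_mul] at e
  have e1 : ∑ c : 𝐂[u], H31.classCoeff u u c = Nat.card A * y + Nat.card A * (Y.card * 2) := by
    have : ∑ c : 𝐂[u], (H31.classCoeff u u c : ℂ) = Nat.card A * y + Nat.card A * (Y.card * 2) := by
      simp only [H31.classCoeff_eq]
      rw [← mul_sum, e, h.iu, h.hG]
      have := H6.card_ne_zero (G := A)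
      push_cast
      field_simp
      ring
    exact_mod_cast this
  set I : Finset 𝐂[u] := {c | IsConj u c} with hI
  let u' : 𝐂[u] := ⟨u, mem_centralizer_singleton_iff.2 rfl⟩
  have uI : u' ∈ I := mem_filter.2 ⟨mem_univ _, IsConj.refl u⟩
  have uu := h.sq_of_isConj (IsConj.refl u)
  have l1 : Y.card * 2 ≤ H31.classCoeff u u u := by
    rw [show Y.card * 2 = Nat.card (I.erase u') by
      rw [Nat.card_eq_fintype_card, Fintype.card_coe, card_erase_of_mem uI, h.cardI, ← h.card]; rfl]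
    refine Nat.card_le_card_of_injective (fun c => ⟨(c.1, c.1 * u), ?_⟩) fun c c' e =>
      Subtype.ext (Subtype.ext (congrArg (·.1.1) e))
    obtain ⟨c1, c2⟩ := mem_erase.1 c.2
    have c3 := (mem_filter.1 c2).2
    have c4 := h.sq_of_isConj c3
    refine ⟨c3, h.isConj_of_sq (fun e => c1 (Subtype.ext (mul_right_cancel (e.trans uu.symm)))) ?_,
      by rw [← mul_assoc, c4, one_mul]⟩
    rw [mul_assoc, ← mul_assoc u, ← mem_centralizer_singleton_iff.1 c.1.2, mul_assoc, uu, mul_one, c4]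
  have l2 : Nat.card A * (Y.card * 2) ≤ ∑ c ∈ I, H31.classCoeff u u c := by
    rw [← h.cardI, ← smul_eq_mul]
    refine card_nsmul_le_sum _ _ _ fun c hc => l1.trans_eq ?_
    exact_mod_cast H6.classFun_of_isConj (H31.isClassFunction_classCoeff u u) (mem_filter.1 hc).2
  have aa := h.sq_of_isConj ha
  have bb := h.sq_of_isConj hb
  by_contra hc
  let c : 𝐂[u] := ⟨a * b, mem_centralizer_singleton_iff.2 (ca.mul_left cb)⟩
  have k : a * b * (a * b) ≠ 1 := fun e => hc (by
    rw [Commute, SemiconjBy, ← inv_eq_of_mul_eq_one_right e, mul_inv_rev, inv_eq_of_mul_eq_one_right aa,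
      inv_eq_of_mul_eq_one_right bb])
  have n1 : (1 : 𝐂[u]) ∉ I := fun e => h.u1 (isConj_one_left.1 (mem_filter.1 e).2)
  have n2 : c ∉ insert 1 I := fun e => (mem_insert.1 e).elim
    (fun e => k (by rw [show a * b = 1 from congrArg Subtype.val e, mul_one]))
    fun e => k (h.sq_of_isConj (mem_filter.1 e).2)
  have l3 := sum_le_sum_of_subset (f := fun c : 𝐂[u] => H31.classCoeff u u c) (subset_univ (insert c (insert 1 I)))
  rw [sum_insert n2, sum_insert n1, e1, Subgroup.coe_one, coef_one u h.u2, h.iu] at l3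
  have : 0 < H31.classCoeff u u c := Nat.card_pos_iff.2 ⟨⟨⟨(a, b), ha, hb, rfl⟩⟩, inferInstance⟩
  omega

theorem comm {a b w : G} (ha : IsConj u a) (hb : IsConj u b) (hw : IsConj u w) (ca : Commute a w)
    (cb : Commute b w) : Commute a b := by
  obtain ⟨k, hk⟩ := isConj_iff.1 hw.symm
  simpa [mul_assoc] using (h.comm_u (ha.trans (isConj_iff.2 ⟨k, rfl⟩)) (hb.trans (isConj_iff.2 ⟨k, rfl⟩))
    (hk ▸ ca.conj k) (hk ▸ cb.conj k)).conj k⁻¹

theorem exists_se : ∃ M : Subgroup G, IsStronglyEmbedded M := by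
  have cj : ∀ g, IsConj u (g * u * g⁻¹) := fun g => isConj_iff.2 ⟨g, rfl⟩
  let M : Subgroup G :=
    { carrier := {g | Commute (g * u * g⁻¹) u}
      one_mem' := by simp
      mul_mem' := fun {a b} ha hb => h.comm (cj _) (IsConj.refl u) (cj a)
        (by simpa [mul_assoc] using Commute.conj hb a) ha.symm
      inv_mem' := fun {a} ha => by simpa [mul_assoc] using (Commute.conj ha a⁻¹).symm }
  have key : ∀ v ∈ M, orderOf v = 2 → Commute v u := fun v hv h2 => by
    have c1 := (h.cls v h2).symm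
    have vv := h.sq_of_isConj c1
    have uu := h.sq_of_isConj (IsConj.refl u)
    have vi := inv_eq_of_mul_eq_one_right vv
    have cm : Commute (v * u * v⁻¹) u := hv
    by_cases e : v * u * v⁻¹ * u = 1
    · exact mul_inv_eq_iff_eq_mul.1 (mul_right_cancel (e.trans uu.symm))
    refine h.comm c1 (IsConj.refl u) (h.isConj_of_sq e ?_) ?_ (cm.symm.mul_right (Commute.refl u))
    · rw [← sq, cm.mul_pow, sq, sq, h.sq_of_isConj (cj v), uu, one_mul]
    · refine mul_inv_eq_iff_eq_mul.1 ?_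
      rw [cm.eq, ← cm.eq, vi]
      simp only [← mul_assoc, vv, one_mul]
      rw [vi] at cm
      simpa only [← mul_assoc] using cm.eq.symm
  refine ⟨M, fun e => ?_, even_iff_two_dvd.2 (h.u2 ▸ M.orderOf_dvd_natCard (show Commute _ u by simp)),
    fun g hg => Nat.not_even_iff_odd.1 fun e => hg ?_⟩
  · have all : ∀ v, IsConj u v → Commute v u := fun v hv => key v (e ▸ mem_top v) (h.ord_of_isConj hv)
    obtain ⟨t, tn, ht⟩ := exists_invol h.two_dvd
    obtain ⟨a, ha, a1⟩ := A.bot_or_exists_ne_one.resolve_left h.ssc.ne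
    have c1 := (h.cls t ht).symm
    have c2 := c1.trans (h.ssc.isConj_mul (h.ssc.odd h.two_dvd) ht tn ha)
    exact h.ssc.not_inK_two h.two_dvd ht (.of_mem (h.ssc.mem ha a1 (by
      simpa using (Commute.refl t).inv_right.mul_right (h.comm c1 c2 (IsConj.refl u) (all _ c1) (all _ c2))))
      fun e => by simp [e] at ht)
  · obtain ⟨⟨v, v1, w, w1, rfl⟩, hv⟩ := exists_prime_orderOf_dvd_card' 2 (even_iff_two_dvd.1 e)
    rw [← orderOf_coe] at hv
    exact h.comm (cj g) (IsConj.refl u) (h.cls _ hv).symm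
      ((key w w1 (((MulAut.conj g).orderOf_eq w).symm.trans hv)).conj g).symm (key _ v1 hv).symm

theorem ne_x : x ≠ Nat.card A + 1 := fun e => by
  classical
  haveI := Fintype.ofFinite 𝐂[u]
  have n1 : (1 : 𝐂[u]) ∉ ({c | IsConj u c} : Finset 𝐂[u]) := fun e => h.u1 (isConj_one_left.1 (mem_filter.1 e).2)
  have all := (card_eq_iff_eq_univ _).1 (show #(insert 1 ({c | IsConj u c} : Finset 𝐂[u])) = _ by
    rw [card_insert_of_notMem n1, h.cardI, ← e, ← h.cu, Nat.card_eq_fintype_card])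
  have sq : ∀ c t : G, orderOf t = 2 → Commute c t → c * c = 1 := fun c t ht cm => by
    obtain ⟨k, hk⟩ := isConj_iff.1 (h.cls t ht)
    have := mem_insert.1 (all ▸ mem_univ (⟨_, mem_centralizer_singleton_iff.2 (hk ▸ cm.conj k)⟩ : 𝐂[u]))
    have : k * c * k⁻¹ * (k * c * k⁻¹) = 1 := this.elim
      (fun e => by rw [show k * c * k⁻¹ = 1 from congrArg Subtype.val e, mul_one])
      fun e => h.sq_of_isConj (mem_filter.1 e).2
    rwa [conj_mul, conj_eq_one_iff] at this
  obtain ⟨T, hT⟩ := Sylow.exists_subgroup_card_pow_prime (G := 𝐍(B)) 2 (n := 2)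
    (H1.card_mul_relIndex_of_le (le_normalizer (H := B)) ▸ h.iB ▸ dvd_mul_left _ _)
  obtain ⟨t, ht⟩ := exists_prime_orderOf_dvd_card' (G := T) 2 (hT ▸ dvd_pow_self 2 two_ne_zero)
  have cm : ∀ a b : T, Commute (a : G) b := fun a b =>
    congrArg (fun c : T => (c : G)) ((IsPGroup.isMulCommutative_of_card_eq_prime_sq hT).1.1 a b)
  have o2 : ∀ c : T, c ≠ 1 → orderOf (c : G) = 2 := fun c c1 => H14.BSE.orderOf_two
    (fun e => c1 (Subtype.ext (Subtype.ext e))) (sq c t (by rw [orderOf_coe, orderOf_coe, ht]) (cm c t))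
  haveI := Fintype.ofFinite T
  obtain ⟨s, hs⟩ : ∃ s, s ∉ ({1, t} : Finset T) := by
    by_contra! hc
    have := (card_le_card fun s _ => hc s : #(univ : Finset T) ≤ _).trans card_le_two
    rw [card_univ, ← Nat.card_eq_fintype_card, hT] at this
    omega
  simp only [mem_insert, mem_singleton, not_or] at hs
  obtain ⟨b, hb, b1⟩ := B.bot_or_exists_ne_one.resolve_left h.sB.ne
  have k1 := h.sB.inverts (h.sB.odd h.dB) (o2 s hs.1) s.1.2 hb
  have k2 := h.sB.inverts (h.sB.odd h.dB) (o2 t fun e => by simp [e] at ht) t.1.2 hb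
  have k3 := o2 (t⁻¹ * s) fun e => hs.2 (inv_mul_eq_one.1 e).symm
  refine h.sB.not_inK_two h.dB k3 (.of_mem (h.sB.mem hb b1 ?_) fun e => by rw [e, orderOf_one] at k3; omega)
  calc (t : G)⁻¹ * s * b = (t : G)⁻¹ * (s * b * (s : G)⁻¹) * s := by group
    _ = b * ((t : G)⁻¹ * s) := by rw [k1, ← k2]; group

theorem isoSuzuki [IsSimpleGroup G] (hna : ∃ a b : G, a * b ≠ b * a) : Lie.IsoSuzuki G := by
  obtain ⟨M, hM⟩ := h.exists_se
  have hG := h.hG
  have oA := h.ssc.odd h.two_dvd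
  have ox : Odd (x + 1) := (even_iff_two_dvd.2 h.even).add_one
  rw [h.yx'] at hG
  rcases H14.BSE.isBender_of_simple_se hna hM with ⟨F, _, _, ⟨k, k2, hk⟩, ⟨e⟩⟩ | hs | ⟨F, _, _, k, k2, hk, ⟨e⟩⟩
  · have q := H10.card_PSL_two (F := F)
    have q4 : 2 ^ 2 ≤ 2 ^ k := Nat.pow_le_pow_right two_pos k2
    rw [← Nat.card_congr e.toEquiv, hG, Nat.card_eq_fintype_card (α := F), hk] at q
    obtain ⟨U, hU⟩ := Nat.exists_eq_add_of_lt (show 0 < 2 ^ k by positivity)
    have oU : Odd U := by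
      have : Even (2 ^ k) := (Nat.even_pow' (by omega)).2 even_two
      rw [hU, zero_add] at this
      exact Nat.not_even_iff_odd.1 (Nat.even_add_one.1 this)
    rw [show 2 ^ k - 1 = U by omega, Nat.coprime_two_left.2 oU] at q
    obtain ⟨e1, e2⟩ := arD (c := Nat.card A) (x := x) (T := 2 ^ k) (U := U)
      ((Nat.coprime_two_left.2 (oA.mul ox)).pow_left k) (by rw [hU, zero_add]) (by omega) (by omega)
      (by linear_combination q)
    exact absurd (by omega) h.ne_x
  · exact hs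
  · have q := Cfsg.Agent.S0280.result hk 3 (by norm_num)
    have q4 : 2 ^ 2 ≤ 2 ^ k := Nat.pow_le_pow_right two_pos k2
    rw [← Nat.card_congr e.toEquiv, hG] at q
    simp only [prod_range_succ, prod_range_zero, Even.zero, Nat.not_even_one, even_two, if_true, if_false] at q
    have d3 : Nat.gcd 3 (2 ^ k + 1) ∣ 3 := Nat.gcd_dvd_left _ _
    have cp := ((Nat.coprime_two_left.2 (((by decide : Odd 3).of_dvd_nat d3).mul oA |>.mul ox)).pow_left k).pow_left 3
    have d4 := Nat.le_of_dvd three_pos d3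
    generalize Nat.gcd 3 (2 ^ k + 1) = d at q cp d4
    generalize 2 ^ k = Q at q cp q4
    obtain ⟨U, hU⟩ := Nat.exists_eq_add_of_lt (show 1 < Q ^ 2 by nlinarith)
    obtain ⟨e1, e2⟩ := arD (c := d * Nat.card A) (x := x) (T := Q ^ 3) (U := 1 + U) cp
      (hU ▸ pow_dvd_pow Q (by norm_num)) (by positivity) (by omega) (by
        apply Nat.eq_of_mul_eq_mul_left (Nat.add_one_pos Q)
        rw [show Q ^ (1 + 1) - 1 = 1 + U from Nat.sub_eq_of_eq_add hU] at q
        linear_combination q)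
    obtain ⟨j, hj⟩ := h.dvdA
    have e3 : (d * Nat.card A + 1 : ℤ) = Q ^ 2 := by exact_mod_cast (congrArg (· + 1) e2).trans hU.symm
    have e4 : (x : ℤ) = Q ^ 3 := by exact_mod_cast e1
    have := Int.le_of_dvd (by omega) (⟨j - Q * d, by linear_combination hj - e4 + Q * e3⟩ :
      (Nat.card A : ℤ) ∣ Q - 1)
    have : (d * Nat.card A : ℤ) ≤ 3 * (Q - 1) := by gcongr; exact_mod_cast d4
    have : (4 : ℤ) ≤ Q := by exact_mod_cast q4
    nlinarith

end T5

theorem main [IsSimpleGroup G] (hna : ∃ a b : G, a * b ≠ b * a) (hA : SSC A) (hB : SSC B) (hD : SSC D)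
    (hn : ∀ g : G, A.map (MulAut.conj g).toMonoidHom ≠ B ∧ A.map (MulAut.conj g).toMonoidHom ≠ D ∧
      B.map (MulAut.conj g).toMonoidHom ≠ D) (iA : A.relIndex 𝐍(A) = 2) (iB : B.relIndex 𝐍(B) = 4)
    (iD : D.relIndex 𝐍(D) = 4) (nA : 5 ≤ Nat.card A) (nB : 5 < Nat.card B) (nD : 5 < Nat.card D)
    (hG : Nat.card G ≤ 3 * Nat.card A ^ 2 * Nat.card B ^ 2 * Nat.card D ^ 2) : Lie.IsoSuzuki G := by
  obtain ⟨ε, χ, Y, x, y, h2⟩ := hA.exists_T2 hna iA (by omega)
  obtain ⟨u, r, h3⟩ := h2.exists_T3 hna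
  have h4 : T4 A B D ε χ Y x y u r := ⟨h3, hB, hD, iB, iD, nA, nB, nD, hA.cop_of_ne hB fun g => (hn g).1,
    hA.cop_of_ne hD fun g => (hn g).2.1, hB.cop_of_ne hD fun g => (hn g).2.2⟩
  obtain ⟨m, e1, e2, e3, e4, e5, e6⟩ := h4.order hG
  have h5 : T5 A B D ε χ Y x y u r m := ⟨h4, e1, e2, e3, e4, e5, e6⟩
  obtain rfl := h5.pos
  exact h5.isoSuzuki hna

end H84.SC
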